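import Groth.Agent.Lib.ConstQuot.EtSection
import Groth.Agent.Lib.SGA1Quot21.Points
import Groth.Agent.Lib.SGA1Quot21.BaseChange
import Groth.Agent.Lib.AlgSp.FormalLift

/-!
# Finite quotients are categorical quotients among algebraic spaces
-/

set_option autoImplicit false
set_option linter.style.haveILetI false
set_option backward.isDefEq.respectTransparency false
set_option backward.isDefEq.respectTransparency.types false

universe u

open CategoryTheory CategoryTheory.Limits AlgebraicGeometry

namespace GrothLib.ConstQuot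

open _root_.AlgSp

variable {S : Scheme.{u}} {X Y : Over S} {G : Type u} [Group G] [Finite G] (ρ : G →* Aut X.left) (p : X ⟶ Y)

/-- An invariant automorphism, over the base. -/
noncomputable def actOver (hinv : ∀ g, (ρ g).hom ≫ p.left = p.left) (g : G) : X ⟶ X :=
  Over.homMk (ρ g).hom (by rw [← Over.w p, reassoc_of% (hinv g)])

/-- The action on a base change. -/
noncomputable def baseAct (hinv : ∀ g, (ρ g).hom ≫ p.left = p.left) {T : Scheme.{u}} (h : T ⟶ Y.left) :
    G →* Aut (pullback p.left h) :=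
  let m : G → (pullback p.left h ⟶ pullback p.left h) := fun g =>
    pullback.map p.left h p.left h (ρ g).hom (𝟙 T) (𝟙 Y.left) (by simp [hinv g]) (by simp)
  have hmul : ∀ g g', m (g * g') = m g' ≫ m g := fun g g' => by
    apply pullback.hom_ext <;> simp [m, map_mul] <;> rfl
  have hone : m 1 = 𝟙 _ := by
    apply pullback.hom_ext <;> simp [m, map_one]
    exact Category.comp_id _
  { toFun := fun g => ⟨m g, m g⁻¹, by rw [← hmul, inv_mul_cancel, hone], by rw [← hmul, mul_inv_cancel, hone]⟩
    map_one' := Iso.ext hone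
    map_mul' := fun g g' => Iso.ext (hmul g g') }

theorem baseAct_fst (hinv : ∀ g, (ρ g).hom ≫ p.left = p.left) {T : Scheme.{u}} (h : T ⟶ Y.left) (g : G) :
    (baseAct ρ p hinv h g).hom ≫ pullback.fst p.left h = pullback.fst p.left h ≫ (ρ g).hom :=
  pullback.lift_fst _ _ _

theorem baseAct_snd (hinv : ∀ g, (ρ g).hom ≫ p.left = p.left) {T : Scheme.{u}} (h : T ⟶ Y.left) (g : G) :
    (baseAct ρ p hinv h g).hom ≫ pullback.snd p.left h = pullback.snd p.left h :=
  (pullback.lift_snd _ _ _).trans (Category.comp_id _)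

variable {ρ p}

/-- The base change of a quotient by a flat morphism is a quotient. -/
theorem isQuot_base (hp : SGA1.IsQuot ρ p.left) {T : Scheme.{u}} (h : T ⟶ Y.left) [Flat h] :
    SGA1.IsQuot (baseAct ρ p hp.inv h) (pullback.snd p.left h) :=
  GrothLib.SGA1Quot21.isQuot_baseChange hp (IsPullback.of_hasPullback p.left h)
    (baseAct_snd ρ p hp.inv h) (baseAct_fst ρ p hp.inv h)

variable {N : Sp S}

/-- A finite quotient is an epimorphism for maps to algebraic spaces. -/
theorem hom_ext_quot (hp : SGA1.IsQuot ρ p.left) (hN : Representable (Limits.diag N))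
    {a b : (yon S).obj Y ⟶ N} (h : (yon S).map p ≫ a = (yon S).map p ≫ b) : a = b := by
  let t := prod.lift a b
  let E := hN.pullback t
  let e : E ⟶ Y := hN.snd t
  have sq : IsPullback (hN.fst t) ((yon S).map e) (Limits.diag N) t := hN.isPullback t
  have hfst : hN.fst t = (yon S).map e ≫ a := by
    have := congrArg (fun m => m ≫ prod.fst) sq.w
    simpa [t] using this
  have hmono : ∀ {Z : Over S} (c d : Z ⟶ E), c ≫ e = d ≫ e → c = d := fun c d hcd => by
    refine (yon S).map_injective (sq.hom_ext ?_ ?_)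
    · rw [hfst, ← Functor.map_comp_assoc, ← Functor.map_comp_assoc, hcd]
    · rw [← Functor.map_comp, ← Functor.map_comp, hcd]
  obtain ⟨s, hs⟩ := (yon S).map_surjective (sq.lift ((yon S).map p ≫ a) ((yon S).map p) (by
    apply prod.hom_ext
    · simp [t]
    · simp [t, h]))
  have hse : s ≫ e = p := (yon S).map_injective (by rw [Functor.map_comp, hs, sq.lift_snd])
  have hinv : ∀ g, actOver ρ p hp.inv g ≫ s = s := fun g => hmono _ _ (by
    rw [Category.assoc, hse]
    exact Over.OverMorphism.ext (hp.inv g))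
  obtain ⟨e', he', -⟩ := GrothLib.SGA1Quot21.existsUnique_desc hp s.left
    fun g => congrArg (fun m : X ⟶ E => m.left) (hinv g)
  have hee : e' ≫ e.left = 𝟙 Y.left :=
    (GrothLib.SGA1Quot21.existsUnique_desc hp p.left hp.inv).unique
      (by rw [reassoc_of% he', ← Over.comp_left, hse]) (Category.comp_id _)
  let e'' : Y ⟶ E := Over.homMk e' (by
    rw [← Over.w e, reassoc_of% hee])
  have h1 : e'' ≫ e = 𝟙 Y := Over.OverMorphism.ext hee
  have h2 := congrArg (fun m => (yon S).map e'' ≫ m ≫ prod.snd) sq.w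
  simp only [Category.assoc, t, prod.lift_snd, Limits.diag, Category.comp_id] at h2
  rw [hfst, ← Functor.map_comp_assoc, ← Functor.map_comp_assoc, h1] at h2
  simpa using h2

/-- An invariant map to an algebraic space descends étale locally on the quotient. -/
theorem exists_local_desc (hp : SGA1.IsQuot ρ p.left) [IsFinite p.left] (hN : IsAlgSpace N)
    (k : (yon S).obj X ⟶ N) (hk : ∀ g, (yon S).map (actOver ρ p hp.inv g) ≫ k = k) (y : Y.left) :
    ∃ (Y' : Over S) (c : Y' ⟶ Y) (y' : Y'.left), Etale c.left ∧ c.left y' = y ∧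
      ∃ l : (yon S).obj Y' ⟶ N, ∀ (Z : Over S) (q : Z ⟶ X) (r : Z ⟶ Y'), q ≫ p = r ≫ c →
        (yon S).map q ≫ k = (yon S).map r ≫ l := by
  haveI : Surjective p.left := ⟨GrothLib.SGA1Quot21.surjective hp⟩
  obtain ⟨U, w, we, ws⟩ := hN.atlas
  obtain ⟨R, t, s, sq⟩ := GrothLib.AlgSp.exists_isPullback_yon hN.diag k w
  haveI : Etale t.left := we.2 k _ _ sq.flip
  haveI : Surjective t.left := ws.2 k _ _ sq.flip
  obtain ⟨x, rfl⟩ := p.left.surjective y
  obtain ⟨r₀, rfl⟩ := t.left.surjective x
  obtain ⟨_, ⟨(U₀ : U.left.Opens), hU₀, rfl⟩, hr₀, -⟩ := U.left.isBasis_affineOpens.exists_subset_of_mem_open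
    (Set.mem_univ (s.left r₀)) isOpen_univ
  have σR : ∀ g : G, ∃ m : R ⟶ R, m ≫ t = t ≫ actOver ρ p hp.inv g ∧ m ≫ s = s := fun g => by
    obtain ⟨m, hm⟩ := (yon S).map_surjective (sq.lift ((yon S).map (t ≫ actOver ρ p hp.inv g)) ((yon S).map s)
      (by rw [Functor.map_comp, Category.assoc, hk, sq.w]))
    exact ⟨m, (yon S).map_injective (by rw [Functor.map_comp, hm, sq.lift_fst]),
      (yon S).map_injective (by rw [Functor.map_comp, hm, sq.lift_snd])⟩
  choose σ₀ hσt hσs using σR
  let V : R.left.Opens := s.left ⁻¹ᵁ U₀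
  let a : (V : Scheme.{u}) ⟶ X.left := V.ι ≫ t.left
  let b : (V : Scheme.{u}) ⟶ (U₀ : Scheme.{u}) := s.left ∣_ U₀
  have hb : b ≫ U₀.ι = V.ι ≫ s.left := morphismRestrict_ι _ _
  have hm : ∀ (T : Scheme.{u}) (c d : T ⟶ (V : Scheme.{u})), c ≫ a = d ≫ a → c ≫ b = d ≫ b → c = d := by
    intro T c d ha hb'
    have hw : (d ≫ V.ι) ≫ R.hom = c ≫ V.ι ≫ R.hom := by
      rw [← Over.w t]
      simpa only [a, Category.assoc] using (congrArg (fun m => m ≫ X.hom) ha).symm
    let c' : Over.mk (c ≫ V.ι ≫ R.hom) ⟶ R := Over.homMk (c ≫ V.ι) (Category.assoc _ _ _)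
    let d' : Over.mk (c ≫ V.ι ≫ R.hom) ⟶ R := Over.homMk (d ≫ V.ι) hw
    have h1 : c' ≫ t = d' ≫ t := Over.OverMorphism.ext (by
      show (c ≫ V.ι) ≫ t.left = (d ≫ V.ι) ≫ t.left
      simpa only [a, Category.assoc] using ha)
    have h2 : c' ≫ s = d' ≫ s := Over.OverMorphism.ext (by
      show (c ≫ V.ι) ≫ s.left = (d ≫ V.ι) ≫ s.left
      rw [Category.assoc, Category.assoc, ← hb, reassoc_of% hb'])
    have : c' = d' := (yon S).map_injective (sq.hom_ext
      (by rw [← Functor.map_comp, ← Functor.map_comp, h1]) (by rw [← Functor.map_comp, ← Functor.map_comp, h2]))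
    rw [← cancel_mono V.ι]
    exact congrArg (fun m : Over.mk (c ≫ V.ι ≫ R.hom) ⟶ R => m.left) this
  have hσV : ∀ g, Set.range (V.ι ≫ (σ₀ g).left) ⊆ Set.range V.ι := fun g => by
    rintro _ ⟨z, rfl⟩
    rw [Scheme.Opens.range_ι]
    show s.left ((σ₀ g).left (V.ι z)) ∈ U₀
    rw [← Scheme.Hom.comp_apply, ← Over.comp_left, hσs]
    exact z.2
  let σ : G → ((V : Scheme.{u}) ⟶ (V : Scheme.{u})) := fun g => IsOpenImmersion.lift V.ι _ (hσV g)
  have hσa : ∀ g, σ g ≫ a = a ≫ (ρ g).hom := fun g => by
    simp only [σ, a, IsOpenImmersion.lift_fac_assoc, Category.assoc]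
    rw [← Over.comp_left, hσt]
    rfl
  have hσb : ∀ g, σ g ≫ b = b := fun g => by
    rw [← cancel_mono U₀.ι, Category.assoc, hb, IsOpenImmersion.lift_fac_assoc, Category.assoc, ← Over.comp_left, hσs]
  haveI : IsAffine (U₀ : Scheme.{u}) := hU₀
  haveI : IsSeparated (a ≫ p.left) := by
    have hw : a ≫ X.hom = b ≫ U₀.ι ≫ U.hom := by
      rw [reassoc_of% hb]
      simp only [a, Category.assoc, Over.w]
    let l := pullback.lift a b hw
    haveI : Mono l := ⟨fun {T} c d hcd => by
      refine hm T c d ?_ ?_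
      · simpa only [Category.assoc, l, pullback.lift_fst] using congrArg (fun m => m ≫ pullback.fst _ _) hcd
      · simpa only [Category.assoc, l, pullback.lift_snd] using congrArg (fun m => m ≫ pullback.snd _ _) hcd⟩
    haveI : IsSeparated (U₀.ι ≫ U.hom) := inferInstance
    haveI : IsSeparated a := by
      rw [show a = l ≫ pullback.fst _ _ from (pullback.lift_fst _ _ _).symm]
      infer_instance
    infer_instance
  obtain ⟨Y₁, h, y₁, -, _, hy, sec, hsa, hsb⟩ := exists_equivariant_section p.left ρ hp.inv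
    (fun Ω _ _ ξ₁ ξ₂ e => GrothLib.SGA1Quot21.exists_comp_eq hp ξ₁ ξ₂ e) a b hm σ hσa hσb ⟨r₀, hr₀⟩
  obtain ⟨β, hβ, -⟩ := GrothLib.SGA1Quot21.existsUnique_desc (isQuot_base hp h) (sec ≫ b ≫ U₀.ι)
    fun g => by
      have := hsb g _ (baseAct_fst ρ p hp.inv h g) (baseAct_snd ρ p hp.inv h g)
      simpa only [Category.assoc] using congrArg (fun m => m ≫ U₀.ι) this
  have hβU : β ≫ U.hom = h ≫ Y.hom :=
    (GrothLib.SGA1Quot21.existsUnique_desc (isQuot_base hp h) (pullback.snd p.left h ≫ h ≫ Y.hom)
      fun g => by rw [reassoc_of% (baseAct_snd ρ p hp.inv h g)]).unique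
      (by
        rw [reassoc_of% hβ, reassoc_of% hb, Over.w, ← Over.w t]
        show sec ≫ a ≫ X.hom = _
        rw [reassoc_of% hsa, ← Over.w p, pullback.condition_assoc]) rfl
  let Y' : Over S := Over.mk (h ≫ Y.hom)
  let c : Y' ⟶ Y := Over.homMk h rfl
  let β' : Y' ⟶ U := Over.homMk β hβU
  refine ⟨Y', c, y₁, ‹Etale h›, hy, (yon S).map β' ≫ w, fun Z q r hqr => ?_⟩
  have hw' : q.left ≫ p.left = r.left ≫ h := congrArg (fun m : Z ⟶ Y => m.left) hqr
  let z := pullback.lift q.left r.left hw'
  let ζ : Z ⟶ R := Over.homMk ((z ≫ sec) ≫ V.ι) (by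
    rw [← Over.w t]
    show ((z ≫ sec) ≫ V.ι) ≫ t.left ≫ X.hom = _
    rw [Category.assoc, Category.assoc, ← Category.assoc V.ι]
    show z ≫ sec ≫ a ≫ X.hom = _
    rw [reassoc_of% hsa, pullback.lift_fst_assoc, Over.w])
  have h1 : ζ ≫ t = q := Over.OverMorphism.ext (by
    show ((z ≫ sec) ≫ V.ι) ≫ t.left = q.left
    rw [Category.assoc, Category.assoc]
    show z ≫ sec ≫ a = _
    rw [hsa, pullback.lift_fst])
  have h2 : ζ ≫ s = r ≫ β' := Over.OverMorphism.ext (by
    show ((z ≫ sec) ≫ V.ι) ≫ s.left = r.left ≫ β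
    rw [Category.assoc, Category.assoc, ← hb, ← hβ, pullback.lift_snd_assoc])
  rw [← h1, Functor.map_comp, Category.assoc, sq.w, ← Functor.map_comp_assoc, h2, Functor.map_comp,
    Category.assoc]

/-- A finite quotient is a categorical quotient among algebraic spaces. -/
theorem existsUnique_desc_sp (hp : SGA1.IsQuot ρ p.left) [IsFinite p.left] (hN : IsAlgSpace N)
    (k : (yon S).obj X ⟶ N) (hk : ∀ g, (yon S).map (actOver ρ p hp.inv g) ≫ k = k) :
    ∃! l : (yon S).obj Y ⟶ N, (yon S).map p ≫ l = k := by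
  choose Y' c y' hc hy l hl using exists_local_desc hp hN k hk
  haveI : ∀ y, Etale (c y).left := hc
  obtain ⟨L, hL, -⟩ := GrothLib.AlgSp.exists_hom_of_cover (F := N) Y' c (fun y => inferInstance)
    (fun y => inferInstance) (fun y => ⟨y, y' y, hy y⟩) l fun i j Z gi gj hg => by
      -- it suffices to treat the fibre product
      let P := pullback (c i).left (c j).left
      let P' : Over S := Over.mk ((pullback.fst (c i).left (c j).left ≫ (c i).left) ≫ Y.hom)
      let d : P' ⟶ Y := Over.homMk (pullback.fst (c i).left (c j).left ≫ (c i).left) rfl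
      let πi : P' ⟶ Y' i := Over.homMk (pullback.fst (c i).left (c j).left) (by
        show _ = ((pullback.fst (c i).left (c j).left ≫ (c i).left) ≫ Y.hom)
        rw [Category.assoc, Over.w])
      let πj : P' ⟶ Y' j := Over.homMk (pullback.snd (c i).left (c j).left) (by
        show _ = ((pullback.fst (c i).left (c j).left ≫ (c i).left) ≫ Y.hom)
        rw [pullback.condition, Category.assoc, Over.w])
      have hi : πi ≫ c i = d := Over.OverMorphism.ext rfl
      have hj : πj ≫ c j = d := Over.OverMorphism.ext pullback.condition.symm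
      have key : (yon S).map πi ≫ l i = (yon S).map πj ≫ l j := by
        let Q : Over S := Over.mk (pullback.snd p.left d.left ≫ P'.hom)
        let qX : Q ⟶ X := Over.homMk (pullback.fst p.left d.left) (by
          show _ = pullback.snd p.left d.left ≫ P'.hom
          rw [← Over.w p, pullback.condition_assoc, Over.w d])
        let qP : Q ⟶ P' := Over.homMk (pullback.snd p.left d.left) rfl
        have hsq : qX ≫ p = qP ≫ d := Over.OverMorphism.ext pullback.condition
        haveI : Flat d.left := inferInstanceAs (Flat (pullback.fst (c i).left (c j).left ≫ (c i).left))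
        refine hom_ext_quot (p := qP) (isQuot_base hp d.left) hN.diag ?_
        rw [← Functor.map_comp_assoc, ← Functor.map_comp_assoc,
          ← hl i Q qX (qP ≫ πi) (by rw [Category.assoc, hi, hsq]),
          ← hl j Q qX (qP ≫ πj) (by rw [Category.assoc, hj, hsq])]
      let z : Z ⟶ P' := Over.homMk (pullback.lift gi.left gj.left (congrArg (fun m : Z ⟶ Y => m.left) hg)) (by
        show _ ≫ ((pullback.fst (c i).left (c j).left ≫ (c i).left) ≫ Y.hom) = _
        rw [Category.assoc, pullback.lift_fst_assoc, Over.w, Over.w])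
      have h1 : z ≫ πi = gi := Over.OverMorphism.ext (pullback.lift_fst _ _ _)
      have h2 : z ≫ πj = gj := Over.OverMorphism.ext (pullback.lift_snd _ _ _)
      rw [← h1, ← h2, Functor.map_comp, Functor.map_comp, Category.assoc, Category.assoc, key]
  refine ⟨L, ?_, fun L' hL' => hom_ext_quot hp hN.diag (hL'.trans ?_)⟩
  all_goals
    have hpL : (yon S).map p ≫ L = k := by
      refine GrothLib.AlgSp.hom_ext_cover (F := N) (fun y => pullback p (c y)) (fun y => pullback.fst p (c y))
        (fun y => ?_) (fun y => ?_) (fun x => ?_) fun y => ?_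
      · exact MorphismProperty.of_isPullback
          (GrothLib.AlgSp.isPullback_left (IsPullback.of_hasPullback p (c y))).flip (inferInstance : Flat (c y).left)
      · exact MorphismProperty.of_isPullback
          (GrothLib.AlgSp.isPullback_left (IsPullback.of_hasPullback p (c y))).flip
          (inferInstance : LocallyOfFinitePresentation (c y).left)
      · obtain ⟨z, hz, -⟩ := Scheme.exists_preimage_of_isPullback
          (GrothLib.AlgSp.isPullback_left (IsPullback.of_hasPullback p (c (p.left x)))) x (y' (p.left x))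
          (hy (p.left x)).symm
        exact ⟨p.left x, z, hz⟩
      · rw [← Functor.map_comp_assoc, pullback.condition, Functor.map_comp_assoc, hL y]
        exact (hl y _ _ _ pullback.condition).symm
  · exact hpL
  · exact hpL.symm

end GrothLib.ConstQuot
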