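import Groth.Prelude.Def_ConstAct2
import Groth.Agent.Lib.ConstQuot.Descend
import Groth.Agent.Lib.SGA1Quot21.Descend
import Groth.Agent.Lib.SGA1Quot21.Ring
import Mathlib.RingTheory.Finiteness.ModuleFinitePresentation

/-!
# The quotient of an affine scheme by a finite group, as data over `Spec R`
-/

set_option autoImplicit false
set_option linter.style.haveILetI false
set_option backward.isDefEq.respectTransparency false
set_option backward.isDefEq.respectTransparency.types false

universe u

open CategoryTheory CategoryTheory.Limits MonoidalCategory CartesianMonoidalCategory MonObj GrpObj AlgebraicGeometry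

namespace GrothLib.ConstQuot

variable (R : Type u) [CommRing R] (A : Type u) [CommRing A] [Algebra R A]
variable (G : Type u) [Group G] [Fintype G] [DecidableEq G] [MulSemiringAction G A] [SMulCommClass G R A]

omit [Fintype G] [DecidableEq G] in
theorem isInvariant_inv : Algebra.IsInvariant (ConstAct.inv R A G) A G := ⟨fun a ha => ⟨⟨a, ha⟩, rfl⟩⟩

omit [Fintype G] [DecidableEq G] in
theorem smulComm_inv : SMulCommClass G (ConstAct.inv R A G) A :=
  ⟨fun g b a => by
    change g • ((b : A) * a) = (b : A) * (g • a)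
    rw [smul_mul', b.2 g]⟩

/-- The action of the group by automorphisms of `Spec A`. -/
noncomputable def rhoA : G →* Aut (ConstAct.X R A).left := GrothLib.SGA1Quot21.specAction G A

omit [Fintype G] [DecidableEq G] in
theorem specAction_hom (g : G) :
    (rhoA R A G g).hom = (ConstAct.act R A G g⁻¹).left := rfl

omit [DecidableEq G] in
theorem isQuot : SGA1.IsQuot (rhoA R A G) (ConstAct.quot R A G).left := by
  haveI := isInvariant_inv R A G
  haveI := smulComm_inv R A G
  haveI : FaithfulSMul (ConstAct.inv R A G) A :=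
    (faithfulSMul_iff_algebraMap_injective _ _).2 Subtype.val_injective
  exact GrothLib.SGA1Quot21.isQuot_Spec _ (GrothLib.SGA1Quot21.specAction_range G A)

omit [DecidableEq G] in
theorem isFinite_quot [Algebra.FiniteType R A] : IsFinite (ConstAct.quot R A G).left := by
  haveI : LocallyOfFiniteType ((ConstAct.quot R A G).left ≫ (ConstAct.specInv R A G).hom) := by
    rw [Over.w]
    refine (HasRingHomProperty.Spec_iff (P := @LocallyOfFiniteType)).mpr ?_
    exact RingHom.finiteType_algebraMap.mpr inferInstance
  exact GrothLib.SGA1Quot21.isFinite_of_locallyOfFiniteType (isQuot R A G) (q := (ConstAct.specInv R A G).hom)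

/-- The constant group scheme of a finite group is of finite presentation. -/
theorem lfp_GR : LocallyOfFinitePresentation (ConstAct.GR R G).hom := by
  haveI : Module.Free R (ConstGrp.F R G) := inferInstanceAs (Module.Free R (G → R))
  haveI : Module.Finite R (ConstGrp.F R G) := inferInstanceAs (Module.Finite R (G → R))
  haveI : Module.FinitePresentation R (ConstGrp.F R G) := Module.finitePresentation_of_projective R _
  haveI : Algebra.FinitePresentation R (ConstGrp.F R G) := Algebra.FinitePresentation.of_finitePresentation R _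
  refine (HasRingHomProperty.Spec_iff (P := @LocallyOfFinitePresentation)).mpr ?_
  exact RingHom.finitePresentation_algebraMap.mpr inferInstance

/-- The constant point `g` over `Spec A`. -/
noncomputable def constG (g : G) : ConstAct.X R A ⟶ ConstAct.GR R G :=
  CoactBr.pt (ConstAct.constPt R G (K := A) g)

theorem pt_id_X : CoactBr.pt (AlgHom.id R A) = 𝟙 (ConstAct.X R A) := CoactBr.pt_id (R := R) (B := A)

theorem lift_constG_act' (g : G) :
    lift (constG R A G g) (CoactBr.pt (AlgHom.id R A)) ≫ (ConstAct.gaction R A G).act =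
      CoactBr.pt (AlgHom.id R A) ≫ ConstAct.act R A G g⁻¹ :=
  ConstAct.gaction_constPt R A G g (AlgHom.id R A)

theorem lift_constG_act_aux (g : G) (x : ConstAct.X R A ⟶ ConstAct.X R A) (h : x = 𝟙 _)
    (h' : lift (constG R A G g) x ≫ (ConstAct.gaction R A G).act = x ≫ ConstAct.act R A G g⁻¹) :
    lift (constG R A G g) (𝟙 (ConstAct.X R A)) ≫ (ConstAct.gaction R A G).act = ConstAct.act R A G g⁻¹ := by
  subst h
  exact h'.trans (Category.id_comp _)

/-- Acting by the constant point `g` is the automorphism `act g⁻¹`. -/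
theorem lift_constG_act (g : G) :
    lift (constG R A G g) (𝟙 (ConstAct.X R A)) ≫ (ConstAct.gaction R A G).act = ConstAct.act R A G g⁻¹ :=
  lift_constG_act_aux R A G g _ (pt_id_X R A) (lift_constG_act' R A G g)

omit [DecidableEq G] in
theorem actOver_eq (g : G) :
    actOver (rhoA R A G) (ConstAct.quot R A G) (isQuot R A G).inv g =
      ConstAct.act R A G g⁻¹ :=
  Over.OverMorphism.ext (specAction_hom R A G g)

/-- An invariant map for the action of the constant group scheme is invariant under every group element. -/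
theorem act_comp_of_invariant {N : AlgSp.Sp (Spec (CommRingCat.of R))}
    (k : (AlgSp.yon _).obj (ConstAct.X R A) ⟶ N)
    (hk : (AlgSp.yon _).map (ConstAct.gaction R A G).act ≫ k =
      (AlgSp.yon _).map (snd (ConstAct.GR R G) (ConstAct.X R A)) ≫ k) (g : G) :
    (AlgSp.yon _).map (ConstAct.act R A G g) ≫ k = k := by
  have h := congrArg ((AlgSp.yon _).map (lift (constG R A G g⁻¹) (𝟙 (ConstAct.X R A))) ≫ ·) hk
  simp only [← Functor.map_comp_assoc, lift_constG_act, _root_.inv_inv, lift_snd] at h
  exact h.trans ((congrArg (· ≫ k) ((AlgSp.yon _).map_id _)).trans (Category.id_comp k))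

omit [Algebra R A] in
/-- Every point with values in an algebra is given by an algebra map. -/
theorem exists_pt [Algebra R A] {K : Type u} [CommRing K] [Algebra R K]
    (x : CoactBr.sp R K ⟶ CoactBr.sp R A) : ∃ φ : A →ₐ[R] K, CoactBr.pt φ = x := by
  obtain ⟨f, hf⟩ := Spec.map_surjective x.left
  have hw : CommRingCat.ofHom (algebraMap R A) ≫ f = CommRingCat.ofHom (algebraMap R K) := by
    apply Spec.map_injective
    rw [Spec.map_comp, hf]
    exact Over.w x
  exact ⟨{ f.hom with commutes' := fun r => congr($hw r) }, Over.OverMorphism.ext hf⟩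

omit [DecidableEq G] in
/-- Algebra maps on the invariants to an algebraically closed field extend. -/
theorem exists_extend [Algebra.FiniteType R A] (Ω : Type u) [Field Ω] [IsAlgClosed Ω] [Algebra R Ω]
    (y : ↥(ConstAct.inv R A G) →ₐ[R] Ω) : ∃ x : A →ₐ[R] Ω, x.comp (ConstAct.inv R A G).val = y := by
  haveI := isFinite_quot R A G
  let p := (ConstAct.quot R A G).left
  let ηy : Spec (CommRingCat.of Ω) ⟶ (ConstAct.specInv R A G).left := Spec.map (CommRingCat.ofHom y.toRingHom)
  obtain ⟨z, hz⟩ := GrothLib.SGA1Quot21.surjective (isQuot R A G) (GrothLib.Weight.pt ηy)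
  obtain ⟨ξ, -⟩ : Nonempty {r : GrothLib.Weight.GeomPts p ηy // GrothLib.Weight.pt r.1 = z} := by
    refine (Nat.card_ne_zero.mp ?_).1
    rw [(GrothLib.Weight.card_geomPts_over p ηy z hz).2]
    letI := (p.residueFieldMap z).hom.toAlgebra
    haveI : Module.Finite ((ConstAct.specInv R A G).left.residueField (p z))
        ((ConstAct.specA R A).left.residueField z) := GrothLib.Weight.finite_residueFieldMap p z
    exact NeZero.ne _
  obtain ⟨f, hf⟩ := Spec.map_surjective ξ.1
  have hfy : CommRingCat.ofHom (ConstAct.inv R A G).val.toRingHom ≫ f = CommRingCat.ofHom y.toRingHom := by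
    apply Spec.map_injective
    rw [Spec.map_comp, hf]
    exact ξ.2
  refine ⟨{ f.hom with commutes' := fun r => ?_ }, AlgHom.ext fun b => congr($hfy b)⟩
  exact (congr($hfy (algebraMap R (ConstAct.inv R A G) r))).trans (y.commutes r)

omit [DecidableEq G] in
/-- Algebra maps to a field with the same restriction to the invariants differ by a group element. -/
theorem exists_smul (Ω : Type u) [Field Ω] [Algebra R Ω] (x x' : A →ₐ[R] Ω)
    (h : x.comp (ConstAct.inv R A G).val = x'.comp (ConstAct.inv R A G).val) :
    ∃ g : G, x' = x.comp (MulSemiringAction.toAlgEquiv R A g : A →ₐ[R] A) := by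
  haveI := isInvariant_inv R A G
  haveI := smulComm_inv R A G
  obtain ⟨g, hg⟩ := GrothLib.SGA1Quot21.exists_smul_ringHom_eq (G := G) (B := ConstAct.inv R A G)
    x'.toRingHom x.toRingHom fun b => (DFunLike.congr_fun h b).symm
  exact ⟨g, AlgHom.ext hg⟩

/-- The quotient has the geometric orbit property. -/
theorem geomOrbits [Algebra.FiniteType R A] (Ω : Type u) [Field Ω] [IsAlgClosed Ω]
    (t : Spec (CommRingCat.of Ω) ⟶ Spec (CommRingCat.of R)) :
    (∀ y : Over.mk t ⟶ ConstAct.specInv R A G, ∃ x : Over.mk t ⟶ ConstAct.X R A, x ≫ ConstAct.quot R A G = y) ∧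
      (∀ x x' : Over.mk t ⟶ ConstAct.X R A, x ≫ ConstAct.quot R A G = x' ≫ ConstAct.quot R A G →
        ∃ g : Over.mk t ⟶ ConstAct.GR R G, lift g x' ≫ (ConstAct.gaction R A G).act = x) := by
  obtain ⟨φ, rfl⟩ := Spec.map_surjective t
  letI : Algebra R Ω := φ.hom.toAlgebra
  refine ⟨fun y => ?_, fun x x' hxx' => ?_⟩
  · obtain ⟨ψ, rfl⟩ := exists_pt R (ConstAct.inv R A G) (K := Ω) y
    obtain ⟨x, hx⟩ := exists_extend R A G Ω ψ
    exact ⟨CoactBr.pt x, ((CoactBr.pt_comp (ConstAct.inv R A G).val x).symm).trans (congrArg CoactBr.pt hx)⟩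
  · obtain ⟨a, rfl⟩ := exists_pt R A (K := Ω) x
    obtain ⟨a', rfl⟩ := exists_pt R A (K := Ω) x'
    have hq : ∀ b : A →ₐ[R] Ω, CoactBr.pt b ≫ ConstAct.quot R A G = CoactBr.pt (b.comp (ConstAct.inv R A G).val) :=
      fun b => (CoactBr.pt_comp (ConstAct.inv R A G).val b).symm
    obtain ⟨g, rfl⟩ := exists_smul R A G Ω a' a
      (CoactBr.pt_injective (((hq a').symm.trans hxx'.symm).trans (hq a)))
    refine ⟨CoactBr.pt (ConstAct.constPt R G g⁻¹), ?_⟩
    refine (ConstAct.gaction_constPt R A G g⁻¹ a').trans ?_
    rw [_root_.inv_inv]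
    exact (ConstAct.pt_comp_toAlgEquiv R A G a' g).symm

end GrothLib.ConstQuot
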