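import Groth.Agent.Lib.Weight.Family
import Groth.Agent.Lib.Weight.FiniteIsolated
import Groth.Agent.Lib.Weight.Constructible
import Groth.Agent.Lib.EtBasicB.OverField
import Mathlib.AlgebraicGeometry.Morphisms.FlatMono
import Mathlib.AlgebraicGeometry.ZariskisMainTheorem

/-!
# Equivariant sections of étale maps over finite quotients

Let `p : X ⟶ Y` be finite, invariant under a finite group `G`, with geometric orbits as fibres, and
`a : V ⟶ X` étale with `G` acting compatibly. Étale locally on `Y` there is a section of `a` which is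
equivariant.
-/

set_option autoImplicit false
set_option linter.style.haveILetI false
set_option backward.isDefEq.respectTransparency false

universe u

open CategoryTheory Limits AlgebraicGeometry Topology

namespace GrothLib.ConstQuot

open GrothLib.Weight

variable {X Y V W : Scheme.{u}} {G : Type*} [Group G] [Finite G]

theorem exists_equivariant_section (p : X ⟶ Y) [IsFinite p] [Surjective p] (ρ : G →* Aut X)
    (hinv : ∀ g, (ρ g).hom ≫ p = p)
    (hgeo : ∀ (Ω : Type u) [Field Ω] [IsAlgClosed Ω] (ξ₁ ξ₂ : Spec (CommRingCat.of Ω) ⟶ X),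
      ξ₁ ≫ p = ξ₂ ≫ p → ∃ g : G, ξ₁ ≫ (ρ g).hom = ξ₂)
    (a : V ⟶ X) [Etale a] [IsSeparated (a ≫ p)] (b : V ⟶ W)
    (hm : ∀ (T : Scheme.{u}) (c d : T ⟶ V), c ≫ a = d ≫ a → c ≫ b = d ≫ b → c = d)
    (σ : G → (V ⟶ V)) (hσa : ∀ g, σ g ≫ a = a ≫ (ρ g).hom) (hσb : ∀ g, σ g ≫ b = b) (v : V) :
    ∃ (Y' : Scheme.{u}) (h : Y' ⟶ Y) (y' : Y'), IsAffine Y' ∧ Etale h ∧ h y' = p (a v) ∧
      ∃ s : pullback p h ⟶ V, s ≫ a = pullback.fst p h ∧
        ∀ (g : G) (e : pullback p h ⟶ pullback p h), e ≫ pullback.fst p h = pullback.fst p h ≫ (ρ g).hom →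
          e ≫ pullback.snd p h = pullback.snd p h → e ≫ s ≫ b = s ≫ b := by
  let f₀ : V ⟶ Y := a ≫ p
  haveI : LocallyQuasiFinite a := GrothLib.EtBasicB.locallyQuasiFinite_of_unramified a
  haveI : LocallyQuasiFinite f₀ := inferInstanceAs (LocallyQuasiFinite (a ≫ p))
  haveI : LocallyOfFiniteType f₀ := inferInstanceAs (LocallyOfFiniteType (a ≫ p))
  haveI : IsSeparated f₀ := ‹IsSeparated (a ≫ p)›
  obtain ⟨Ω, _, _, r₀, hr₀⟩ := exists_pt v
  obtain ⟨U, g, _, η, hη, T, π, aT, q, hP, hsub, hq⟩ :=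
    exists_charts (f := f₀) (r₀ ≫ f₀) 1 fun _ => ⟨r₀, rfl⟩
  let u : U := pt η
  haveI := (hP 0).finite
  let π₁ : pullback f₀ g ⟶ V := pullback.fst f₀ g
  let π₂ : pullback f₀ g ⟶ U := pullback.snd f₀ g
  let j : T 0 ⟶ pullback f₀ g := pullback.lift (aT 0) (π 0) (hP 0).w
  haveI : IsOpenImmersion j := (hP 0).openImmersion
  let σ' : G → (pullback f₀ g ⟶ pullback f₀ g) := fun k => pullback.lift (π₁ ≫ σ k) π₂ (by
    show (π₁ ≫ σ k) ≫ a ≫ p = π₂ ≫ g
    rw [Category.assoc, reassoc_of% (hσa k), hinv]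
    exact pullback.condition)
  have hσ1 : ∀ k, σ' k ≫ π₁ = π₁ ≫ σ k := fun k => pullback.lift_fst _ _ _
  have hσ2 : ∀ k, σ' k ≫ π₂ = π₂ := fun k => pullback.lift_snd _ _ _
  have hσmul : ∀ k l, σ' k ≫ σ' l = σ' (l * k) := fun k l => by
    apply pullback.hom_ext
    · show (σ' k ≫ σ' l) ≫ π₁ = σ' (l * k) ≫ π₁
      rw [Category.assoc, hσ1, reassoc_of% (hσ1 k), hσ1]
      congr 1
      refine hm _ _ _ ?_ ?_
      · rw [Category.assoc, hσa, reassoc_of% (hσa k), hσa, map_mul]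
        rfl
      · rw [Category.assoc, hσb, hσb, hσb]
    · show (σ' k ≫ σ' l) ≫ π₂ = σ' (l * k) ≫ π₂
      rw [Category.assoc, hσ2, hσ2, hσ2]
  have hσone : σ' 1 = 𝟙 _ := by
    apply pullback.hom_ext
    · show σ' 1 ≫ π₁ = 𝟙 _ ≫ π₁
      rw [hσ1, Category.id_comp]
      refine (congrArg (π₁ ≫ ·) (hm _ (σ 1) (𝟙 V) ?_ ?_)).trans (Category.comp_id _)
      · rw [hσa, map_one, Category.id_comp]
        exact Category.comp_id a
      · rw [hσb, Category.id_comp]
    · show σ' 1 ≫ π₂ = 𝟙 _ ≫ π₂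
      rw [hσ2, Category.id_comp]
  haveI hiso : ∀ k, IsIso (σ' k) := fun k => ⟨σ' k⁻¹,
    by rw [hσmul, inv_mul_cancel, hσone], by rw [hσmul, mul_inv_cancel, hσone]⟩
  let J : G → (pullback f₀ g).Opens := fun k => (j ≫ σ' k).opensRange
  let Q : (pullback f₀ g).Opens := ⨆ k, J k
  have hmemQ : ∀ z, z ∈ Q ↔ ∃ k t, σ' k (j t) = z := fun z => by
    simp only [Q, J, TopologicalSpace.Opens.mem_iSup]
    rfl
  -- the pieces are finite
  have hQfin : IsFinite (Q.ι ≫ π₂) := by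
    obtain ⟨n, ⟨e⟩⟩ := Finite.exists_equiv_fin G
    have hJ : ∀ i, IsFinite ((J (e.symm i)).ι ≫ π₂) := fun i => by
      rw [← MorphismProperty.cancel_left_of_respectsIso @IsFinite (j ≫ σ' (e.symm i)).isoOpensRange.hom,
        Scheme.Hom.isoOpensRange_hom_ι_assoc, Category.assoc, hσ2, pullback.lift_snd]
      infer_instance
    have h := (isFinite_union π₂ n (fun i => J (e.symm i)) hJ).2
    rwa [show Q = ⨆ i, J (e.symm i) from (e.symm.iSup_comp (g := J)).symm]
  let X' := pullback p g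
  let a' : pullback f₀ g ⟶ X' := pullback.map f₀ g p g a (𝟙 U) (𝟙 Y) (by simp [f₀]) (by simp)
  have ha1 : a' ≫ pullback.fst p g = π₁ ≫ a := pullback.lift_fst _ _ _
  have ha2 : a' ≫ pullback.snd p g = π₂ := by
    refine (pullback.lift_snd _ _ _).trans (Category.comp_id _)
  haveI : Etale a' := by
    refine MorphismProperty.of_isPullback (P := @Etale) (f := pullback.fst p g) (g := a) (f' := π₁) ?_
      inferInstance
    refine IsPullback.of_right (h₁₂ := pullback.snd p g) (h₂₂ := p) (v₁₃ := g) ?_ ha1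
      (IsPullback.of_hasPullback p g).flip |>.flip
    rw [ha2]
    exact (IsPullback.of_hasPullback f₀ g).flip
  let f : (Q : Scheme.{u}) ⟶ X' := Q.ι ≫ a'
  haveI : IsFinite f := by
    haveI : IsFinite (f ≫ pullback.snd p g) := by
      rw [Category.assoc, ha2]; exact hQfin
    exact IsFinite.of_comp f (pullback.snd p g)
  haveI : Etale f := inferInstanceAs (Etale (Q.ι ≫ a'))
  -- geometric points over `u`
  have hpts : ∀ (Ω' : Type u) [Field Ω'] [IsAlgClosed Ω'] (η' : Spec (CommRingCat.of Ω') ⟶ U),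
      pt η' = u → ∃ ν : Spec (CommRingCat.of Ω') ⟶ T 0, ν ≫ π 0 = η' ∧
        ∀ d : Spec (CommRingCat.of Ω') ⟶ pullback f₀ g, d ≫ π₂ = η' → pt d ∈ Q →
          ∃ k, d = ν ≫ j ≫ σ' k := by
    intro Ω' _ _ η' hη'
    have hsub' : Subsingleton (GeomPts (π 0) η') := subsingleton_geomPts_of_pt_eq (π 0) hη' (hsub 0)
    obtain ⟨t, ht, -⟩ := fibreIntegral_subsingleton (π 0) η ⟨hsub 0, ⟨q 0⟩⟩
    obtain ⟨ν, -⟩ : Nonempty {r : GeomPts (π 0) η' // pt r.1 = t} := by
      refine (Nat.card_ne_zero.mp ?_).1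
      rw [(card_geomPts_over (π 0) η' t (ht.trans hη'.symm)).2]
      letI := ((π 0).residueFieldMap t).hom.toAlgebra
      haveI : Module.Finite (U.residueField ((π 0) t)) ((T 0).residueField t) :=
        finite_residueFieldMap (π 0) t
      exact NeZero.ne _
    refine ⟨ν.1, ν.2, fun d hd hdQ => ?_⟩
    obtain ⟨k, t', ht'⟩ := (hmemQ _).mp hdQ
    let l := IsOpenImmersion.lift (j ≫ σ' k) d (range_subset_of_pt_mem d ⟨t', ht'⟩)
    have hl : l ≫ j ≫ σ' k = d := IsOpenImmersion.lift_fac _ _ _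
    have hlπ : l ≫ π 0 = η' := by
      rw [← hd, ← hl, Category.assoc, Category.assoc, hσ2, pullback.lift_snd]
    exact ⟨k, by rw [← hl, show l = ν.1 from congrArg Subtype.val (Subsingleton.elim (⟨l, hlπ⟩ : GeomPts (π 0) η') ν)]⟩
  -- the bad sets
  let Δ := pullback.diagonal f
  let C : Set ↑(pullback f f) := (Set.range Δ)ᶜ
  have hC : IsClosed C := Δ.isOpenEmbedding.isOpen_range.isClosed_compl
  let D : Set X' := (Set.range f)ᶜ
  have hD : IsClosed D := f.isOpenMap.isOpen_range.isClosed_compl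
  let πQ : pullback f f ⟶ U := pullback.fst f f ≫ f ≫ pullback.snd p g
  have hCu : u ∉ πQ '' C := by
    rintro ⟨z, hz, hzu⟩
    obtain ⟨Ω', _, _, c, rfl⟩ := exists_pt z
    obtain ⟨ν, hν, hall⟩ := hpts Ω' (c ≫ πQ) hzu
    let d₁ := c ≫ pullback.fst f f
    let d₂ := c ≫ pullback.snd f f
    have hd : d₁ ≫ f = d₂ ≫ f := by simp only [d₁, d₂, Category.assoc, pullback.condition]
    have h₁ : (d₁ ≫ Q.ι) ≫ π₂ = c ≫ πQ := by simp only [d₁, πQ, f, Category.assoc, ha2]
    have h₂ : (d₂ ≫ Q.ι) ≫ π₂ = c ≫ πQ := by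
      rw [← h₁, ← ha2, Category.assoc, Category.assoc]
      exact (congrArg (fun m => m ≫ pullback.snd p g) hd.symm).trans (by simp only [f, Category.assoc])
    obtain ⟨k₁, hk₁⟩ := hall (d₁ ≫ Q.ι) h₁ (d₁ (IsLocalRing.closedPoint Ω')).2
    obtain ⟨k₂, hk₂⟩ := hall (d₂ ≫ Q.ι) h₂ (d₂ (IsLocalRing.closedPoint Ω')).2
    have he : d₁ = d₂ := by
      rw [← cancel_mono Q.ι]
      apply pullback.hom_ext
      · refine hm _ _ _ ?_ ?_
        · show ((d₁ ≫ Q.ι) ≫ π₁) ≫ a = ((d₂ ≫ Q.ι) ≫ π₁) ≫ a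
          simp only [Category.assoc, ← ha1]
          have := congrArg (fun m => m ≫ pullback.fst p g) hd
          simpa only [f, Category.assoc] using this
        · show ((d₁ ≫ Q.ι) ≫ π₁) ≫ b = ((d₂ ≫ Q.ι) ≫ π₁) ≫ b
          rw [hk₁, hk₂]
          simp only [Category.assoc, reassoc_of% hσ1, hσb]
      · exact h₁.trans h₂.symm
    apply hz
    refine ⟨d₁ (IsLocalRing.closedPoint Ω'), ?_⟩
    have hc : c = d₁ ≫ Δ := by
      apply pullback.hom_ext
      · rw [Category.assoc, pullback.diagonal_fst, Category.comp_id]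
      · rw [Category.assoc, pullback.diagonal_snd, Category.comp_id, he]
    exact ((congrArg pt hc).trans (pt_comp _ _)).symm
  have hDu : u ∉ pullback.snd p g '' D := by
    rintro ⟨x, hx, hxu⟩
    obtain ⟨Ω', _, _, ξ, rfl⟩ := exists_pt x
    obtain ⟨ν, hν, -⟩ := hpts Ω' (ξ ≫ pullback.snd p g) hxu
    have hξ0 : (ν ≫ j ≫ a' ≫ pullback.fst p g) ≫ p = (ξ ≫ pullback.fst p g) ≫ p := by
      rw [Category.assoc, Category.assoc, Category.assoc, Category.assoc, pullback.condition,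
        reassoc_of% ha2, pullback.lift_snd_assoc, reassoc_of% hν]
    obtain ⟨k, hk⟩ := hgeo Ω' _ _ hξ0
    have hkx : ν ≫ j ≫ σ' k ≫ a' = ξ := by
      apply pullback.hom_ext
      · rw [← hk]
        simp only [Category.assoc, ha1, reassoc_of% hσ1, hσa, reassoc_of% ha1]
      · simp only [Category.assoc, ha2, hσ2]
        rw [pullback.lift_snd, hν]
    have hQk : σ' k (j (pt ν)) ∈ Q := (hmemQ _).mpr ⟨k, _, rfl⟩
    refine hx ⟨⟨_, hQk⟩, ?_⟩
    rw [← hkx]
    rfl
  have hC' : IsClosed (πQ '' C) := by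
    haveI : IsFinite (f ≫ pullback.snd p g) := inferInstance
    haveI : IsFinite πQ := inferInstanceAs (IsFinite (pullback.fst f f ≫ f ≫ pullback.snd p g))
    exact πQ.isClosedMap _ hC
  have hD' : IsClosed (pullback.snd p g '' D) := (pullback.snd p g).isClosedMap _ hD
  obtain ⟨_, ⟨(U' : U.Opens), hU', rfl⟩, huU', hU'sub⟩ := U.isBasis_affineOpens.exists_subset_of_mem_open
    (⟨hCu, hDu⟩ : u ∈ (πQ '' C)ᶜ ∩ (pullback.snd p g '' D)ᶜ) (hC'.isOpen_compl.inter hD'.isOpen_compl)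
  let O : X'.Opens := pullback.snd p g ⁻¹ᵁ U'
  let fO := f ∣_ O
  haveI : Etale fO := IsZariskiLocalAtTarget.restrict (P := @Etale) inferInstance O
  haveI hmono : Mono fO := ⟨fun {Z} c d hcd => by
    rw [← cancel_mono (f ⁻¹ᵁ O).ι]
    let c' := c ≫ (f ⁻¹ᵁ O).ι
    let d' := d ≫ (f ⁻¹ᵁ O).ι
    have hcd' : c' ≫ f = d' ≫ f := by
      simp only [c', d', Category.assoc, ← morphismRestrict_ι]
      exact congrArg (fun m => m ≫ O.ι) hcd
    let cd := pullback.lift c' d' hcd'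
    have hr : Set.range cd ⊆ Set.range Δ := by
      rintro _ ⟨z, rfl⟩
      by_contra hz
      refine (hU'sub ?_).1 ⟨cd z, hz, rfl⟩
      show πQ (cd z) ∈ U'
      rw [← Scheme.Hom.comp_apply, pullback.lift_fst_assoc, Category.assoc, Scheme.Hom.comp_apply,
        Scheme.Hom.comp_apply]
      exact (c z).2
    have hl := IsOpenImmersion.lift_fac Δ cd hr
    have h1 := congrArg (fun m => m ≫ pullback.fst f f) hl
    have h2 := congrArg (fun m => m ≫ pullback.snd f f) hl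
    simp only [Category.assoc, Δ, pullback.diagonal_fst, pullback.diagonal_snd, Category.comp_id,
      cd, pullback.lift_fst, pullback.lift_snd] at h1 h2
    exact h1.symm.trans h2⟩
  haveI : IsOpenImmersion fO := IsOpenImmersion.of_flat_of_mono fO
  haveI : Surjective fO := ⟨fun z => by
    obtain ⟨t, ht⟩ : z.1 ∈ Set.range f := by
      by_contra hz
      exact (hU'sub (show pullback.snd p g z.1 ∈ U' from z.2)).2 ⟨z.1, hz, rfl⟩
    refine ⟨⟨t, show f t ∈ O by rw [ht]; exact z.2⟩, O.ι.isOpenEmbedding.injective ?_⟩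
    rw [← Scheme.Hom.comp_apply, morphismRestrict_ι]
    exact ht⟩
  haveI : IsIso fO := (isIso_iff_isOpenImmersion_and_surjective fO).mpr ⟨inferInstance, inferInstance⟩
  let h : (U' : Scheme.{u}) ⟶ Y := U'.ι ≫ g
  let m : pullback p h ⟶ X' :=
    pullback.lift (pullback.fst p h) (pullback.snd p h ≫ U'.ι) (by rw [pullback.condition, Category.assoc])
  have hmO : Set.range m ⊆ Set.range O.ι := by
    rintro _ ⟨z, rfl⟩
    rw [Scheme.Opens.range_ι]
    show pullback.snd p g (m z) ∈ U'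
    rw [← Scheme.Hom.comp_apply, pullback.lift_snd]
    exact (pullback.snd p h z).2
  let sV : pullback p h ⟶ pullback f₀ g :=
    IsOpenImmersion.lift O.ι m hmO ≫ inv fO ≫ (f ⁻¹ᵁ O).ι ≫ Q.ι
  have hsV : sV ≫ a' = m := by
    have h1 : (f ⁻¹ᵁ O).ι ≫ Q.ι ≫ a' = fO ≫ O.ι := (morphismRestrict_ι f O).symm
    simp only [sV, Category.assoc, h1, IsIso.inv_hom_id_assoc, IsOpenImmersion.lift_fac]
  refine ⟨U', h, ⟨u, huU'⟩, hU', inferInstance, ?_, sV ≫ π₁, ?_, fun k e he1 he2 => ?_⟩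
  · rw [Scheme.Hom.comp_apply]
    show g (pt η) = p (a v)
    rw [← pt_comp, hη, pt_comp, hr₀, Scheme.Hom.comp_apply]
  · rw [Category.assoc, ← ha1, reassoc_of% hsV, pullback.lift_fst]
  · -- both `e ≫ sV` and `sV ≫ σ' k` lift `e ≫ m` into `Q`
    have key : e ≫ sV = sV ≫ σ' k := by
      have hem : e ≫ m = sV ≫ σ' k ≫ a' := by
        apply pullback.hom_ext
        · simp only [Category.assoc, ha1, reassoc_of% hσ1, hσa, m, pullback.lift_fst, he1]
          rw [← reassoc_of% ha1, reassoc_of% hsV, pullback.lift_fst_assoc]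
        · simp only [Category.assoc, ha2, hσ2, m, pullback.lift_snd, reassoc_of% he2]
          rw [← ha2, reassoc_of% hsV, pullback.lift_snd]
      have hr1 : Set.range (sV ≫ σ' k) ⊆ Set.range Q.ι := by
        rintro _ ⟨z, rfl⟩
        rw [Scheme.Opens.range_ι]
        obtain ⟨l, t, hlt⟩ := (hmemQ (sV z)).mp (by
          simp only [sV, Scheme.Hom.comp_apply]
          exact ((f ⁻¹ᵁ O).ι _).2)
        refine (hmemQ _).mpr ⟨k * l, t, ?_⟩
        rw [Scheme.Hom.comp_apply, ← hlt, ← hσmul, Scheme.Hom.comp_apply]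
      let c₁ : pullback p h ⟶ (Q : Scheme.{u}) :=
        e ≫ IsOpenImmersion.lift O.ι m hmO ≫ inv fO ≫ (f ⁻¹ᵁ O).ι
      let c₂ : pullback p h ⟶ (Q : Scheme.{u}) := IsOpenImmersion.lift Q.ι (sV ≫ σ' k) hr1
      have h1 : c₁ ≫ Q.ι = e ≫ sV := by simp only [c₁, sV, Category.assoc]
      have h2 : c₂ ≫ Q.ι = sV ≫ σ' k := IsOpenImmersion.lift_fac _ _ _
      have hc₁ : Set.range c₁ ⊆ Set.range (f ⁻¹ᵁ O).ι := by
        rintro _ ⟨z, rfl⟩
        exact ⟨_, rfl⟩
      have hf1 : c₁ ≫ f = e ≫ m := by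
        rw [← hsV, ← reassoc_of% h1]
      have hf2 : c₂ ≫ f = e ≫ m := by
        rw [hem]; exact (reassoc_of% h2) a'
      have hc₂ : Set.range c₂ ⊆ Set.range (f ⁻¹ᵁ O).ι := by
        rintro _ ⟨z, rfl⟩
        rw [Scheme.Opens.range_ι]
        show f (c₂ z) ∈ (O : Set X')
        rw [← Scheme.Hom.comp_apply, hf2, Scheme.Hom.comp_apply, ← O.range_ι]
        exact hmO ⟨_, rfl⟩
      rw [← h1, ← h2, ← IsOpenImmersion.lift_fac _ c₁ hc₁, ← IsOpenImmersion.lift_fac _ c₂ hc₂]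
      congr 2
      rw [← cancel_mono fO, ← cancel_mono O.ι, Category.assoc, Category.assoc, morphismRestrict_ι,
        IsOpenImmersion.lift_fac_assoc, IsOpenImmersion.lift_fac_assoc, hf1, hf2]
    show e ≫ (sV ≫ π₁) ≫ b = (sV ≫ π₁) ≫ b
    rw [Category.assoc, reassoc_of% key, reassoc_of% (hσ1 k), hσb]

end GrothLib.ConstQuot
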