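import Groth.Agent.Lib.ConstQuot.Basic
import Groth.Agent.Lib.SpQuot.CoarseModuli
import Groth.Agent.Lib.AlgSt.GerbeModuli

/-!
# Coarse moduli spaces of quotient stacks by finite groups
-/

set_option autoImplicit false
set_option linter.style.haveILetI false
set_option backward.isDefEq.respectTransparency false
set_option backward.isDefEq.respectTransparency.types false

universe u

open CategoryTheory CategoryTheory.Limits MonoidalCategory CartesianMonoidalCategory MonObj GrpObj AlgebraicGeometry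
open Opposite

namespace GrothLib.ConstQuot

open _root_.AlgSp _root_.AlgSt

attribute [local instance] GrothLib.SpQuot.grpYon

section General

variable {S : Scheme.{u}} {G : Over S} [GrpObj G] {X : Over S} (aX : AlgGrp.Action G X)

/-- Objects of the category of a sheaf joined by a morphism over an identity are equal. -/
theorem obj_eq_of_isHomLift {M : Sp S} {u v : (ofSp M).obj} (m : u ⟶ v) {T : Over S}
    (h : (ofSp M).p.IsHomLift (𝟙 T) m) : u = v := by
  have hu := IsHomLift.domain_eq (ofSp M).p (𝟙 T) m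
  have hv := IsHomLift.codomain_eq (ofSp M).p (𝟙 T) m
  have hm := IsHomLift.fac' (ofSp M).p (𝟙 T) m
  change m.hom = _ at hm
  obtain ⟨A, a⟩ := u
  obtain ⟨B, b⟩ := v
  change A = T at hu
  change B = T at hv
  subst hu hv
  have := m.map_sec
  rw [hm] at this
  simp at this
  exact congrArg _ this.symm

/-- Maps out of the base of a torsor agree if they agree on the torsor. -/
theorem hom_ext_torsor (A : QuotObj Scheme.fppfPrecoverage G aX) {N : Sp S} {a b : (yon S).obj A.base ⟶ N}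
    (h : (yon S).map A.π ≫ a = (yon S).map A.π ≫ b) : a = b := by
  let A' := (GrothLib.SpQuot.compare G X aX).obj A
  have hR := GrothLib.SpQuot.secSieve_mem A'
  refine (GrothLib.SpQuot.existsUnique_glue hR (fun W g _ => (yon S).map g ≫ a) fun W' W h g _ => ?_).unique
    (fun W g _ => rfl) fun W g hg => ?_
  · rw [Functor.map_comp, Category.assoc]
  · obtain ⟨s, hs⟩ := hg
    rw [← hs, Category.assoc, Category.assoc]
    exact congrArg (s ≫ ·) h.symm

variable {Y Y' X' : Over S} {f : X ⟶ Y} {g : Y' ⟶ Y} (π : QuotSt Scheme.fppfPrecoverage G aX ⥤ᵇ ofSch Y)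

/-- An object of the base change of a quotient stack. -/
def fpObj (u : (ofSch Y').obj) (A : QuotObj Scheme.fppfPrecoverage G aX) (hA : A.base = u.base)
    (h : (ofSpMap ((yon S).map g)).obj u = π.obj A) : (FibCat.fp (ofSpMap ((yon S).map g)) π).obj :=
  ⟨{ fst := u, snd := A, iso := eqToIso h }, IsHomLift.of_fac' (ofSch Y).p _ _ rfl ((π.w_obj A).trans hA) (by
    rw [eqToIso.hom, eqToHom_map]
    simp)⟩

theorem fp_base (a : (FibCat.fp (ofSpMap ((yon S).map g)) π).obj) : a.obj.snd.base = a.obj.fst.base :=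
  haveI : (ofSch Y).p.IsHomLift (𝟙 a.obj.fst.base) a.obj.iso.hom := a.property
  (π.w_obj a.obj.snd).symm.trans (IsHomLift.codomain_eq (ofSch Y).p (𝟙 a.obj.fst.base) a.obj.iso.hom)

/-- Morphisms in the base change are pairs over the same morphism of bases. -/
def fpHom {a b : (FibCat.fp (ofSpMap ((yon S).map g)) π).obj} (x : a.obj.fst ⟶ b.obj.fst) (y : a.obj.snd ⟶ b.obj.snd)
    (h : ∀ (e : a.obj.snd.base = a.obj.fst.base) (e' : b.obj.snd.base = b.obj.fst.base),
      y.base ≫ eqToHom e' = eqToHom e ≫ x.hom) : a ⟶ b :=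
  ObjectProperty.homMk
    { fst := x
      snd := y
      w := Stk.EltObj.hom_ext (by
        haveI la : (ofSch Y).p.IsHomLift (𝟙 a.obj.fst.base) a.obj.iso.hom := a.property
        haveI lb : (ofSch Y).p.IsHomLift (𝟙 b.obj.fst.base) b.obj.iso.hom := b.property
        have ha := IsHomLift.fac' (ofSch Y).p (𝟙 a.obj.fst.base) a.obj.iso.hom
        have hb := IsHomLift.fac' (ofSch Y).p (𝟙 b.obj.fst.base) b.obj.iso.hom
        change a.obj.iso.hom.hom = _ at ha
        change b.obj.iso.hom.hom = _ at hb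
        have hy : (π.map y).hom = eqToHom (π.w_obj a.obj.snd) ≫ y.base ≫ eqToHom (π.w_obj b.obj.snd).symm :=
          Functor.congr_hom π.w y
        have ea := fp_base aX π a
        have eb := fp_base aX π b
        have hxy : y.base = eqToHom ea ≫ x.hom ≫ eqToHom eb.symm := by
          rw [← Category.assoc, ← h ea eb]
          simp
        simp only [Stk.EltObj.comp_hom, ha, hb, hy, hxy]
        change x.hom ≫ _ = _
        simp) }

variable (qX : X' ⟶ X) (qY : X' ⟶ Y')

/-- The chart of the base change of a quotient stack. -/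
noncomputable def chart (hsq : qX ≫ f = qY ≫ g)
    (hπ : BasedFunctor.comp (quotMap Scheme.fppfPrecoverage G aX) π = ofSpMap ((yon S).map f)) :
    ofSch X' ⥤ᵇ FibCat.fp (ofSpMap ((yon S).map g)) π :=
  FibCat.fpLift (ofSpMap ((yon S).map qY))
    (BasedFunctor.comp (ofSpMap ((yon S).map qX)) (quotMap Scheme.fppfPrecoverage G aX))
    (eqToIso (by
      change _ = BasedFunctor.comp (ofSpMap ((yon S).map qX)) (BasedFunctor.comp (quotMap Scheme.fppfPrecoverage G aX) π)
      rw [hπ, GrothLib.SpQuot.comp_ofSpMap, GrothLib.SpQuot.comp_ofSpMap, ← Functor.map_comp, ← Functor.map_comp, hsq]))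

theorem chart_fpFst (hsq : qX ≫ f = qY ≫ g)
    (hπ : BasedFunctor.comp (quotMap Scheme.fppfPrecoverage G aX) π = ofSpMap ((yon S).map f)) :
    BasedFunctor.comp (chart aX π qX qY hsq hπ) (FibCat.fpFst (ofSpMap ((yon S).map g)) π) = ofSpMap ((yon S).map qY) := rfl

variable {π}

/-- The base change of a functor from a quotient stack along `g` is universal among maps to `N` as soon as the
base change of the chart is a quotient by invariant maps. -/
theorem existsUnique_fpFst (hsq : IsPullback qX qY f g)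
    (hπ : BasedFunctor.comp (quotMap Scheme.fppfPrecoverage G aX) π = ofSpMap ((yon S).map f)) {N : Sp S}
    {I : Type*} (cst : I → (X ⟶ G)) (cst' : I → (X' ⟶ X'))
    (hcX : ∀ i, cst' i ≫ qX = qX ≫ lift (cst i) (𝟙 X) ≫ aX.act) (hcY : ∀ i, cst' i ≫ qY = qY)
    (hdesc : ∀ k : (yon S).obj X' ⟶ N, (∀ i, (yon S).map (cst' i) ≫ k = k) → ∃! L, (yon S).map qY ≫ L = k)
    (φ : FibCat.fp (ofSpMap ((yon S).map g)) π ⥤ᵇ ofSp N) :
    ∃! L : (yon S).obj Y' ⟶ N,
      Nonempty (BasedFunctor.comp (FibCat.fpFst (ofSpMap ((yon S).map g)) π) (ofSpMap L) ≅ φ) := by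
  let s := chart aX π qX qY hsq.w hπ
  let Φ := BasedFunctor.comp s φ
  let k := GrothLib.AlgSt.spHom Φ
  have hk : Φ = ofSpMap k := GrothLib.SpQuot.eq_of_iso_ofSp (GrothLib.AlgSt.isoOfSpHom Φ)
  have hobj : ∀ a, φ.obj (s.obj a) = (ofSpMap k).obj a := fun a => congrArg (fun F => F.obj a) hk
  -- sections at two objects related by a morphism
  have hmor : ∀ {ξ ξ' : (FibCat.fp (ofSpMap ((yon S).map g)) π).obj} (m : ξ ⟶ ξ') {T T' : Over S}
      (w : N.obj.obj (op T)) (w' : N.obj.obj (op T')) (e : ξ.obj.fst.base = T) (e' : ξ'.obj.fst.base = T'),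
      φ.obj ξ = ⟨T, w⟩ → φ.obj ξ' = ⟨T', w'⟩ → ∀ v : T ⟶ T', m.hom.fst.hom = eqToHom e ≫ v ≫ eqToHom e'.symm →
        N.obj.map v.op w' = w := by
    intro ξ ξ' m T T' w w' e e' hw hw' v hv
    have hm : (φ.map m).hom = eqToHom (φ.w_obj ξ) ≫ m.hom.fst.hom ≫ eqToHom (φ.w_obj ξ').symm :=
      Functor.congr_hom φ.w m
    have h2 := (φ.map m).map_sec
    exact GrothLib.SpQuot.eq_sec_of_obj_eq (φ.obj ξ') hw' (g := v)
      (congrArg (·.base) hw).symm (congrArg (·.base) hw').symm hw h2 (by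
        rw [hm, hv]
        simp)
  have hinv : ∀ i, (yon S).map (cst' i) ≫ k = k := fun i => by
    let a : (ofSch X').obj := ⟨X', ⟨cst' i⟩⟩
    let b : (ofSch X').obj := ⟨X', ⟨𝟙 X'⟩⟩
    let A := (quotMap Scheme.fppfPrecoverage G aX).obj ⟨X', ⟨qX⟩⟩
    let x : X' ⟶ G ⊗ X' := lift (qX ≫ cst i) (𝟙 X')
    have hx : x ≫ A.φ = cst' i ≫ qX := by
      change lift (qX ≫ cst i) (𝟙 X') ≫ (G ◁ qX) ≫ aX.act = _
      rw [← Category.assoc, lift_whiskerLeft, Category.id_comp, hcX, ← Category.assoc, comp_lift, Category.comp_id]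
    obtain ⟨ψ, hψ⟩ := GrothLib.SpQuot.exists_quotMap_hom aX A x
    have hψ' : ψ.base = 𝟙 X' := hψ.trans (lift_snd _ _)
    have hA : (BasedFunctor.comp (ofSpMap ((yon S).map qX)) (quotMap Scheme.fppfPrecoverage G aX)).obj b = A :=
      congrArg (fun t : X' ⟶ X => (quotMap Scheme.fppfPrecoverage G aX).obj ⟨X', ⟨t⟩⟩) (Category.id_comp qX)
    have hA' : (BasedFunctor.comp (ofSpMap ((yon S).map qX)) (quotMap Scheme.fppfPrecoverage G aX)).obj a =
        (quotMap Scheme.fppfPrecoverage G aX).obj ⟨X', ⟨x ≫ A.φ⟩⟩ :=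
      congrArg (fun t : X' ⟶ X => (quotMap Scheme.fppfPrecoverage G aX).obj ⟨X', ⟨t⟩⟩) hx.symm
    have hu : ((ofSpMap ((yon S).map qY)).obj a) = ((ofSpMap ((yon S).map qY)).obj b) :=
      congrArg (fun t : X' ⟶ Y' => (⟨X', ⟨t⟩⟩ : (ofSch Y').obj)) ((hcY i).trans (Category.id_comp qY).symm)
    let m : s.obj a ⟶ s.obj b := fpHom aX π (eqToHom hu) (eqToHom hA' ≫ ψ ≫ eqToHom hA.symm) fun e e' => by
      have e1 : ∀ {P Q : QuotObj Scheme.fppfPrecoverage G aX} (h : P = Q),
          (eqToHom h).base = eqToHom (congrArg QuotObj.base h) := by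
        rintro P Q rfl; rfl
      have e2 : ∀ {P Q : (ofSch Y').obj} (h : P = Q), (eqToHom h).hom = eqToHom (congrArg (·.base) h) := by
        rintro P Q rfl; rfl
      change ((eqToHom hA').base ≫ ψ.base ≫ (eqToHom hA.symm).base) ≫ eqToHom e' = eqToHom e ≫ (eqToHom hu).hom
      rw [e1, e1, e2, hψ']
      simp
      rfl
    have := hmor m _ _ rfl rfl (hobj a) (hobj b) (𝟙 X') (by
      change (eqToHom hu).hom = _
      have e2 : ∀ {P Q : (ofSch Y').obj} (h : P = Q), (eqToHom h).hom = eqToHom (congrArg (·.base) h) := by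
        rintro P Q rfl; rfl
      rw [e2]
      simp
      rfl)
    apply (J S).uliftYonedaEquiv.injective
    rw [GrothendieckTopology.uliftYonedaEquiv_comp, GrothendieckTopology.uliftYonedaEquiv_uliftYoneda_map]
    change k.hom.app (op X') ⟨cst' i⟩ = _
    have h0 : k.hom.app (op X') ⟨cst' i⟩ = k.hom.app (op X') ⟨𝟙 X'⟩ := by
      have h1 : N.obj.map (𝟙 X').op (k.hom.app (op X') ⟨𝟙 X'⟩) = k.hom.app (op X') ⟨cst' i⟩ := this
      simpa using h1.symm
    rw [h0]
    have := GrothendieckTopology.uliftYonedaEquiv_comp (J S) (𝟙 ((yon S).obj X')) k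
    rw [Category.id_comp] at this
    exact this.symm
  obtain ⟨L, hL, hu⟩ := hdesc k hinv
  refine ⟨L, ⟨eqToIso ?_⟩, fun L' ⟨i⟩ => hu L' ?_⟩
  · refine GrothLib.SpQuot.basedFunctor_ext_ofSp fun ξ => ?_
    obtain ⟨T, w, hT, hw⟩ : ∃ (T : Over S) (w : N.obj.obj (op T)) (_ : T = ξ.obj.fst.base), φ.obj ξ = ⟨T, w⟩ :=
      ⟨_, _, φ.w_obj ξ, rfl⟩
    subst hT
    refine ⟨(congrArg (·.base) hw).symm, ?_⟩
    rw [hw]
    refine heq_of_eq ?_
    obtain ⟨⟨u, A, iso⟩, hp⟩ := ξ
    obtain ⟨T, ⟨y'⟩⟩ := u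
    have hA : A.base = T := fp_base aX π ⟨⟨⟨T, ⟨y'⟩⟩, A, iso⟩, hp⟩
    subst hA
    change N.obj.obj (op A.base) at w
    change L.hom.app (op A.base) ⟨y'⟩ = w
    rw [← Equiv.apply_symm_apply ((J S).uliftYonedaEquiv.{u + 1} (X := A.base) (F := N)) w,
      show L.hom.app (op A.base) ⟨y'⟩ = (J S).uliftYonedaEquiv ((yon S).map y' ≫ L) by
        rw [GrothendieckTopology.uliftYonedaEquiv_comp, GrothendieckTopology.uliftYonedaEquiv_uliftYoneda_map]]
    refine congrArg _ (hom_ext_torsor aX A (GrothLib.AlgSp.hom_ext fun V p => ?_))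
    obtain ⟨x, hx⟩ := (yon S).map_surjective p
    subst hx
    let v : V ⟶ A.base := x ≫ A.π
    -- the image of the object in the base
    have hπA : π.obj A = ⟨A.base, ULift.up (y' ≫ g)⟩ := (obj_eq_of_isHomLift iso.hom hp).symm.trans rfl
    have h1 := GrothLib.SpQuot.sec_spec aX _ π hπ A hπA x
    have h1' : (x ≫ A.φ) ≫ f = (v ≫ y') ≫ g := by
      apply (yon S).map_injective
      rw [Functor.map_comp, ← h1, Category.assoc]
      simp only [v, Functor.map_comp, Category.assoc]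
      congr 2
    let z : V ⟶ X' := hsq.lift (x ≫ A.φ) (v ≫ y') h1'
    let a : (ofSch X').obj := ⟨V, ⟨z⟩⟩
    obtain ⟨ψ, hψ⟩ := GrothLib.SpQuot.exists_quotMap_hom aX A x
    have hA' : (BasedFunctor.comp (ofSpMap ((yon S).map qX)) (quotMap Scheme.fppfPrecoverage G aX)).obj a =
        (quotMap Scheme.fppfPrecoverage G aX).obj ⟨V, ⟨x ≫ A.φ⟩⟩ :=
      congrArg (fun t : V ⟶ X => (quotMap Scheme.fppfPrecoverage G aX).obj ⟨V, ⟨t⟩⟩) (hsq.lift_fst _ _ _)
    let ξ : (FibCat.fp (ofSpMap ((yon S).map g)) π).obj := ⟨⟨⟨A.base, ⟨y'⟩⟩, A, iso⟩, hp⟩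
    let mu : ((ofSpMap ((yon S).map qY)).obj a) ⟶ (⟨A.base, ⟨y'⟩⟩ : (ofSch Y').obj) :=
      ⟨v, congrArg ULift.up (hsq.lift_snd _ _ _).symm⟩
    let m : s.obj a ⟶ ξ := fpHom aX π mu (eqToHom hA' ≫ ψ) fun e e' => by
      have e1 : ∀ {P Q : QuotObj Scheme.fppfPrecoverage G aX} (h : P = Q),
          (eqToHom h).base = eqToHom (congrArg QuotObj.base h) := by
        rintro P Q rfl; rfl
      change ((eqToHom hA').base ≫ ψ.base) ≫ eqToHom e' = eqToHom e ≫ v
      rw [e1, hψ]
      simp [v]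
    have h3 := hmor m _ _ rfl rfl (hobj a) hw v (by simp; rfl)
    have h4 : (yon S).map v ≫ (J S).uliftYonedaEquiv.{u + 1}.symm (w : N.obj.obj (op A.base)) = (yon S).map z ≫ k := by
      apply (J S).uliftYonedaEquiv.injective
      refine ((GrothLib.SpQuot.sec_comp v _).trans ?_).trans
        (GrothendieckTopology.uliftYonedaEquiv_comp (J S) _ k).symm
      rw [Equiv.apply_symm_apply, GrothendieckTopology.uliftYonedaEquiv_uliftYoneda_map]
      exact h3
    rw [← Category.assoc ((yon S).map x), ← Category.assoc ((yon S).map x), ← Functor.map_comp]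
    change (yon S).map v ≫ (yon S).map y' ≫ L = (yon S).map v ≫ _
    rw [h4, ← hL, ← Functor.map_comp_assoc, ← Functor.map_comp_assoc, hsq.lift_snd]
  · have e := GrothLib.SpQuot.eq_of_iso_ofSp i
    apply GrothLib.SpQuot.ofSpMap_injective
    rw [← GrothLib.SpQuot.comp_ofSpMap, ← chart_fpFst aX π qX qY hsq.w hπ]
    exact (congrArg (BasedFunctor.comp s) e).trans hk

/-- Bijectivity on geometric points passes to the base change along a map of schemes. -/
theorem geomPtBij_fpFst (h : GeomPtBij π) : GeomPtBij (FibCat.fpFst (ofSpMap ((yon S).map g)) π) := by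
  intro Ω _ _ t
  obtain ⟨h1, h2⟩ := h Ω t
  have key : ∀ (u : (ofSch Y).obj) {T : Over S} (e : u.base = T),
      u = ⟨T, ((yon S).obj Y).obj.map (eqToHom e.symm).op u.sec⟩ := by
    rintro ⟨T, w⟩ T' (rfl : T = T')
    simp
  have key' : ∀ (u : (ofSch Y').obj) {T : Over S} (e : u.base = T),
      u = ⟨T, ((yon S).obj Y').obj.map (eqToHom e.symm).op u.sec⟩ := by
    rintro ⟨T, w⟩ T' (rfl : T = T')
    simp
  refine ⟨fun m => ?_, ?_⟩
  · obtain ⟨⟨A, hA⟩, hAm⟩ := h1 (ULift.up (m.down ≫ g))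
    refine ⟨⟨fpObj aX π ⟨Over.mk t, m⟩ A hA ?_, rfl⟩, ?_⟩
    · refine Eq.trans ?_ (key (π.obj A) ((π.w_obj A).trans hA)).symm
      exact congrArg (Stk.EltObj.mk (Over.mk t)) hAm.symm
    · exact congrArg ULift.up (Category.id_comp m.down)
  · rintro ⟨ξ, hξ⟩ ⟨ξ', hξ'⟩ hm
    obtain ⟨⟨u, A, iso⟩, hp⟩ := ξ
    obtain ⟨⟨u', A', iso'⟩, hp'⟩ := ξ'
    have hA : A.base = Over.mk t := (fp_base aX π ⟨⟨u, A, iso⟩, hp⟩).trans hξ
    have hA' : A'.base = Over.mk t := (fp_base aX π ⟨⟨u', A', iso'⟩, hp'⟩).trans hξ'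
    have hu : u = u' := ((key' u hξ).trans (congrArg (Stk.EltObj.mk (Over.mk t)) hm)).trans (key' u' hξ').symm
    have hπ1 : π.obj A = (ofSpMap ((yon S).map g)).obj u := (obj_eq_of_isHomLift iso.hom hp).symm
    have hπ2 : π.obj A' = (ofSpMap ((yon S).map g)).obj u' := (obj_eq_of_isHomLift iso'.hom hp').symm
    have hπA : π.obj A = π.obj A' := hπ1.trans ((congrArg _ hu).trans hπ2.symm)
    have hsec : fibSec π (⟨A, hA⟩ : (QuotSt Scheme.fppfPrecoverage G aX).p.Fiber (Over.mk t)) =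
        fibSec π (⟨A', hA'⟩ : (QuotSt Scheme.fppfPrecoverage G aX).p.Fiber (Over.mk t)) := by
      have k1 := key (π.obj A) ((π.w_obj A).trans hA)
      have k2 := key (π.obj A') ((π.w_obj A').trans hA')
      have := (k1.symm.trans hπA).trans k2
      injection this with _ h'
    obtain ⟨φ⟩ := h2 _ _ hsec
    have hφb : φ.hom.1.base ≫ eqToHom hA' = eqToHom hA := by
      have := @IsHomLift.fac' _ _ _ _ (QuotSt Scheme.fppfPrecoverage G aX).p _ _ _ _ (𝟙 (Over.mk t)) φ.hom.1 φ.hom.2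
      change φ.hom.1.base = _ at this
      rw [this]
      simp
    have hφb' : φ.inv.1.base ≫ eqToHom hA = eqToHom hA' := by
      have := @IsHomLift.fac' _ _ _ _ (QuotSt Scheme.fppfPrecoverage G aX).p _ _ _ _ (𝟙 (Over.mk t)) φ.inv.1 φ.inv.2
      change φ.inv.1.base = _ at this
      rw [this]
      simp
    subst hu
    let F := FibCat.fp (ofSpMap ((yon S).map g)) π
    let ξ₁ : F.obj := ⟨⟨u, A, iso⟩, hp⟩
    let ξ₂ : F.obj := ⟨⟨u, A', iso'⟩, hp'⟩
    let m₁ : ξ₁ ⟶ ξ₂ := fpHom aX π (𝟙 u) φ.hom.1 fun e e' => by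
      change φ.hom.1.base ≫ eqToHom e' = eqToHom e ≫ 𝟙 _
      have := congrArg (· ≫ eqToHom (hA'.symm.trans e')) hφb
      simpa using this
    let m₂ : ξ₂ ⟶ ξ₁ := fpHom aX π (𝟙 u) φ.inv.1 fun e e' => by
      change φ.inv.1.base ≫ eqToHom e' = eqToHom e ≫ 𝟙 _
      have := congrArg (· ≫ eqToHom (hA.symm.trans e')) hφb'
      simpa using this
    let J : ξ₁ ≅ ξ₂ :=
      { hom := m₁
        inv := m₂
        hom_inv_id := ObjectProperty.hom_ext _ (CategoricalPullback.hom_ext (Category.id_comp _)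
          (congrArg Subtype.val φ.hom_inv_id))
        inv_hom_id := ObjectProperty.hom_ext _ (CategoricalPullback.hom_ext (Category.id_comp _)
          (congrArg Subtype.val φ.inv_hom_id)) }
    exact ⟨GrothLib.FibCat.fiberIso (a := ⟨ξ₁, hξ⟩) (b := ⟨ξ₂, hξ'⟩) J
      (IsHomLift.of_fac' F.p (𝟙 (Over.mk t)) m₁ hξ hξ' (by
        change 𝟙 _ = _
        simp
        rfl))⟩

end General

variable (R : Type u) [CommRing R] (A : Type u) [CommRing A] [Algebra R A] [Algebra.FiniteType R A]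
variable (G : Type u) [Group G] [Fintype G] [DecidableEq G] [MulSemiringAction G A] [SMulCommClass G R A]
variable (π : ConstAct.quotSt R A G Scheme.fppfPrecoverage ⥤ᵇ AlgSt.ofSch (ConstAct.specInv R A G))
  (hπ : BasedFunctor.comp
      (AlgSt.quotMap Scheme.fppfPrecoverage (ConstAct.GR R G) (ConstAct.gaction R A G)) π =
    AlgSt.ofSpMap ((AlgSp.yon (Spec (CommRingCat.of R))).map (ConstAct.quot R A G)))
include hπ

theorem geomPtBij : GeomPtBij π :=
  GrothLib.SpQuot.geomPtBij_quotSt (ConstAct.gaction R A G) (lfp_GR R G) (ConstAct.quot R A G)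
    (geomOrbits R A G) π hπ

/-- The invariant quotient is a coarse moduli space of the quotient stack. -/
theorem isCoarseModuli : IsCoarseModuli π := by
  refine ⟨?_, geomPtBij R A G π hπ⟩
  haveI := isFinite_quot R A G
  refine (GrothLib.SpQuot.isCatModuliIn_iff (ConstAct.gaction R A G) _ _ π hπ).2
    ⟨IsAlgSpace.yon_obj _, fun N hN k hk => ?_⟩
  refine existsUnique_desc_sp (isQuot R A G) hN k fun g => ?_
  rw [actOver_eq]
  exact act_comp_of_invariant R A G k hk g⁻¹

/-- The coarse moduli space commutes with flat base change. -/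
theorem isCoarseModuli_fpFst {Y' : Over (Spec (CommRingCat.of R))} (g : Y' ⟶ ConstAct.specInv R A G)
    [Flat g.left] : IsCoarseModuli (FibCat.fpFst (AlgSt.ofSpMap ((AlgSp.yon (Spec (CommRingCat.of R))).map g)) π) := by
  refine ⟨⟨IsAlgSpace.yon_obj _, fun N hN φ => ?_⟩, geomPtBij_fpFst (ConstAct.gaction R A G) (geomPtBij R A G π hπ)⟩
  haveI := isFinite_quot R A G
  let f := ConstAct.quot R A G
  let X' : Over (Spec (CommRingCat.of R)) := Over.mk (pullback.snd f.left g.left ≫ Y'.hom)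
  let qY : X' ⟶ Y' := Over.homMk (pullback.snd f.left g.left) rfl
  let qX : X' ⟶ ConstAct.X R A := Over.homMk (pullback.fst f.left g.left) (by
    change _ = pullback.snd f.left g.left ≫ Y'.hom
    rw [← Over.w g, ← pullback.condition_assoc, Over.w f]
    rfl)
  have hsq : IsPullback qX qY f g := GrothLib.AlgSp.isPullback_of_left (IsPullback.of_hasPullback f.left g.left)
  have hq := isQuot_base (isQuot R A G) g.left
  haveI : IsFinite qY.left := MorphismProperty.pullback_snd (P := @IsFinite) _ _ inferInstance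
  refine existsUnique_fpFst (ConstAct.gaction R A G) qX qY hsq hπ (fun h => constG R A G h)
    (fun h => actOver _ qY hq.inv h) (fun h => Over.OverMorphism.ext ?_) (fun h => Over.OverMorphism.ext (hq.inv h))
    (fun k hk => existsUnique_desc_sp hq hN k hk) φ
  rw [lift_constG_act R A G h]
  exact (baseAct_fst (rhoA R A G) f (isQuot R A G).inv g.left h).trans
    (congrArg (pullback.fst f.left g.left ≫ ·) (specAction_hom R A G h))

end GrothLib.ConstQuot
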