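import Groth.Agent.Lib.ConstQuot.QuotSt
import Groth.Prelude.Def_StMod2
import Mathlib.AlgebraicGeometry.AffineSpace

/-!
# Functions on the coarse moduli space of a quotient stack by a finite group
-/

set_option autoImplicit false
set_option linter.style.haveILetI false
set_option backward.isDefEq.respectTransparency false
set_option backward.isDefEq.respectTransparency.types false

universe u

open CategoryTheory CategoryTheory.Limits MonoidalCategory CartesianMonoidalCategory MonObj GrpObj AlgebraicGeometry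
open Opposite

namespace GrothLib.ConstQuot

open _root_.AlgSp _root_.AlgSt

section General

variable {S : Scheme.{u}} {G : Over S} [GrpObj G] {X : Over S} (aX : AlgGrp.Action G X)

theorem top_injective_torsor (A : QuotObj Scheme.fppfPrecoverage G aX) :
    Function.Injective A.π.left.appTop := by
  intro a b hab
  let n : Type u := PUnit
  let V : Over S := Over.mk (𝔸(n; S) ↘ S)
  let ma : A.base ⟶ V := Over.homMk (AffineSpace.homOfVector A.base.hom fun _ => a) (AffineSpace.homOfVector_over _ _)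
  let mb : A.base ⟶ V := Over.homMk (AffineSpace.homOfVector A.base.hom fun _ => b) (AffineSpace.homOfVector_over _ _)
  have h : A.π ≫ ma = A.π ≫ mb := Over.OverMorphism.ext (by
    change A.π.left ≫ AffineSpace.homOfVector A.base.hom _ = A.π.left ≫ AffineSpace.homOfVector A.base.hom _
    rw [AffineSpace.comp_homOfVector, AffineSpace.comp_homOfVector]
    congr 1
    funext i
    exact hab)
  have h' : (yon S).map ma = (yon S).map mb :=
    hom_ext_torsor aX A (by rw [← Functor.map_comp, ← Functor.map_comp, h])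
  have := congrArg (fun m : A.base ⟶ V => m.left.appTop (AffineSpace.coord S (PUnit.unit : n))) ((yon S).map_injective h')
  change (AffineSpace.homOfVector A.base.hom fun _ => a).appTop _ = (AffineSpace.homOfVector A.base.hom fun _ => b).appTop _ at this
  simpa only [AffineSpace.homOfVector_appTop_coord] using this

variable {Y : Over S} {f : X ⟶ Y} {π : QuotSt Scheme.fppfPrecoverage G aX ⥤ᵇ ofSch Y}

theorem hom_eq_of_baseOver_eq {et : (ofSch Y).obj} {ξ : QuotObj Scheme.fppfPrecoverage G aX} {α β : π.obj ξ ⟶ et}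
    (h : StMod.baseOver π ξ α = StMod.baseOver π ξ β) : α = β :=
  Stk.EltObj.hom_ext ((cancel_epi (eqToHom (π.w_obj ξ).symm)).1 h)

theorem relSect_compat {et : (ofSch Y).obj} (s : (StMod.O (QuotSt Scheme.fppfPrecoverage G aX)).RelSect π et)
    {ξ' ξ : QuotObj Scheme.fppfPrecoverage G aX} (φ : ξ' ⟶ ξ) (α : π.obj ξ ⟶ et) (t : ξ'.base ⟶ ξ.base)
    (ht : φ.base = t) (x : Γ(ξ.base.left, ⊤)) (hx : x = s.1 ξ α) :
    t.left.appTop x = s.1 ξ' (π.map φ ≫ α) := by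
  subst ht hx
  have h := s.2 φ α
  rw [StMod.O_mapTop] at h
  exact h

theorem appTop_id_apply {Z : Over S} (x : Γ(Z.left, ⊤)) : (𝟙 Z : Z ⟶ Z).left.appTop x = x := by
  rw [Over.id_left, Scheme.Hom.id_appTop]
  rfl

/-- Functions on a base change are the compatible families of functions, when the base change of the chart is
a quotient. -/
theorem bijective_unitSect (hπ : BasedFunctor.comp (quotMap Scheme.fppfPrecoverage G aX) π = ofSpMap ((yon S).map f))
    (E : AlgSp.EtOver ((yon S).obj Y)) {e : E.obj.left ⟶ Y} (he : (yon S).map e = E.obj.hom) {X' : Over S}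
    {qX : X' ⟶ X} {qY : X' ⟶ E.obj.left} (hsq : IsPullback qX qY f e) {H : Type u} [Group H]
    (ρ : H →* Aut X'.left) (hq : SGA1.IsQuot ρ qY.left) (act' : H → (X' ⟶ X')) (hact : ∀ h, (act' h).left = (ρ h).hom)
    (hqY : ∀ h, act' h ≫ qY = qY) (hqX : ∀ h, ∃ c : X ⟶ G, act' h ≫ qX = qX ≫ lift c (𝟙 X) ≫ aX.act) :
    Function.Bijective (StMod.unitSect π (StMod.etaOf E)) := by
  let qm := quotMap Scheme.fppfPrecoverage G aX
  have hη : StMod.etaOf E = (⟨E.obj.left, ⟨e⟩⟩ : (ofSch Y).obj) := by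
    refine congrArg (Stk.EltObj.mk E.obj.left) ?_
    rw [← he]
    exact GrothendieckTopology.uliftYonedaEquiv_uliftYoneda_map (J S) e
  let ξ₀ : QuotObj Scheme.fppfPrecoverage G aX := qm.obj ⟨X', ⟨qX⟩⟩
  have h0 : π.obj ξ₀ = (⟨X', ⟨qX ≫ f⟩⟩ : (ofSch Y).obj) :=
    congrArg (fun F : ofSch X ⥤ᵇ ofSch Y => F.obj ⟨X', ⟨qX⟩⟩) hπ
  have eh : ∀ {P Q : (ofSch Y).obj} (h : P = Q), (eqToHom h).hom = eqToHom (congrArg (·.base) h) := by
    rintro P Q rfl; rfl
  let α₀ : π.obj ξ₀ ⟶ StMod.etaOf E :=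
    eqToHom h0 ≫ (⟨qY, congrArg ULift.up hsq.w.symm⟩ :
      (⟨X', ⟨qX ≫ f⟩⟩ : (ofSch Y).obj) ⟶ ⟨E.obj.left, ⟨e⟩⟩) ≫ eqToHom hη.symm
  have hα₀ : StMod.baseOver π ξ₀ α₀ = qY := by
    change eqToHom _ ≫ ((eqToHom h0).hom ≫ qY ≫ (eqToHom hη.symm).hom) = qY
    rw [eh, eh]
    simp
  refine ⟨fun r r' h => ?_, fun s => ?_⟩
  · have h1 := congrArg (fun t : (StMod.O (QuotSt Scheme.fppfPrecoverage G aX)).RelSect π (StMod.etaOf E) => t.1 ξ₀ α₀) h
    simp only [StMod.unitSect_val, hα₀] at h1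
    exact hq.injective ⊤ h1
  let s₀ : Γ(X'.left, ⊤) := s.1 ξ₀ α₀
  have hs₀ : ∀ h, (ρ h).hom.appTop s₀ = s₀ := fun h => by
    obtain ⟨c, hc⟩ := hqX h
    let A : QuotObj Scheme.fppfPrecoverage G aX := ξ₀
    let x : X' ⟶ G ⊗ X' := lift (qX ≫ c) (𝟙 X')
    have hx : x ≫ A.φ = act' h ≫ qX := by
      change lift (qX ≫ c) (𝟙 X') ≫ (G ◁ qX) ≫ aX.act = _
      rw [← Category.assoc, lift_whiskerLeft, Category.id_comp, hc, ← Category.assoc qX, comp_lift,
        Category.comp_id]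
    obtain ⟨ψ, hψ⟩ := GrothLib.SpQuot.exists_quotMap_hom aX A x
    have hψ' : ψ.base = 𝟙 X' := hψ.trans (lift_snd _ _)
    have hobj : qm.obj ⟨X', ⟨x ≫ A.φ⟩⟩ = qm.obj ⟨X', ⟨act' h ≫ qX⟩⟩ :=
      congrArg (fun t : X' ⟶ X => qm.obj ⟨X', ⟨t⟩⟩) hx
    let ξh : QuotObj Scheme.fppfPrecoverage G aX := qm.obj ⟨X', ⟨act' h ≫ qX⟩⟩
    let φ₁ : ξh ⟶ ξ₀ := qm.map (⟨act' h, rfl⟩ : (⟨X', ⟨act' h ≫ qX⟩⟩ : (ofSch X).obj) ⟶ ⟨X', ⟨qX⟩⟩)
    let φ₂ : ξh ⟶ ξ₀ := eqToHom hobj.symm ≫ ψ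
    have b₁ : φ₁.base = act' h := rfl
    have e1 : ∀ {P Q : QuotObj Scheme.fppfPrecoverage G aX} (h : P = Q),
        (eqToHom h).base = eqToHom (congrArg QuotObj.base h) := by
      rintro P Q rfl; rfl
    have b₂ : φ₂.base = 𝟙 X' := by
      change (eqToHom hobj.symm).base ≫ ψ.base = _
      rw [e1, hψ']
      simp
    have hα : π.map φ₁ ≫ α₀ = π.map φ₂ ≫ α₀ := by
      apply hom_eq_of_baseOver_eq aX
      rw [← StMod.map_comp_baseOver, ← StMod.map_comp_baseOver, hα₀]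
      change φ₁.base ≫ qY = φ₂.base ≫ qY
      rw [b₁, b₂, hqY]
      exact (Category.id_comp _).symm
    have h1 := relSect_compat aX s φ₁ α₀ (act' h) b₁ s₀ rfl
    have h2 := relSect_compat aX s φ₂ α₀ (𝟙 X') b₂ s₀ rfl
    rw [← hact]
    exact ((h1.trans (congrArg (s.1 ξh) hα)).trans h2.symm).trans (appTop_id_apply s₀)
  have hinv : GrothLib.SGA1Quot21.IsInv ρ qY.left hq.inv ⊤ s₀ := fun h => by
    have e1 : (ρ h).hom.appLE (qY.left ⁻¹ᵁ ⊤) (qY.left ⁻¹ᵁ ⊤) (SGA1.preimage_le_of_inv ρ qY.left hq.inv h ⊤) =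
        (ρ h).hom.appTop := Scheme.Hom.appLE_eq_app _
    change ((ρ h).hom.appLE (qY.left ⁻¹ᵁ ⊤) (qY.left ⁻¹ᵁ ⊤) (SGA1.preimage_le_of_inv ρ qY.left hq.inv h ⊤)).hom s₀ = s₀
    rw [e1]
    exact hs₀ h
  obtain ⟨r, hr⟩ := (hq.range_iff ⊤ s₀).2 hinv
  refine ⟨r, StMod.Mod.RelSect.ext _ _ _ fun A α => ?_⟩
  rw [StMod.unitSect_val]
  apply top_injective_torsor aX A
  let bo : A.base ⟶ E.obj.left := StMod.baseOver π A α
  have hπA : π.obj A = (⟨A.base, ⟨bo ≫ e⟩⟩ : (ofSch Y).obj) := by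
    have key : ∀ (u : (ofSch Y).obj) (m : u ⟶ (⟨E.obj.left, ⟨e⟩⟩ : (ofSch Y).obj)) {T : Over S} (hb : u.base = T),
        u = ⟨T, ⟨(eqToHom hb.symm ≫ m.hom) ≫ e⟩⟩ := by
      rintro ⟨T, w⟩ m T' (rfl : T = T')
      obtain ⟨m, hm⟩ := m
      change (ULift.up (m ≫ e)) = w at hm
      simp [← hm]
    refine (key (π.obj A) (α ≫ eqToHom hη) (π.w_obj A)).trans ?_
    refine congrArg (fun t : A.base ⟶ E.obj.left => (⟨A.base, ⟨t ≫ e⟩⟩ : (ofSch Y).obj)) ?_
    change eqToHom _ ≫ α.hom ≫ (eqToHom hη).hom = eqToHom _ ≫ α.hom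
    rw [eh]
    exact congrArg (eqToHom _ ≫ ·) (Category.comp_id α.hom)
  have h1' : A.φ ≫ f = (A.π ≫ bo) ≫ e := by
    have h1 := GrothLib.SpQuot.sec_spec aX _ π hπ A hπA (𝟙 A.P)
    apply (yon S).map_injective
    rw [Category.id_comp, Category.id_comp] at h1
    have hsym : (J S).uliftYonedaEquiv.{u + 1}.symm (ULift.up (bo ≫ e) : ((yon S).obj Y).obj.obj (op A.base)) =
        (yon S).map (bo ≫ e) :=
      (Equiv.symm_apply_eq _).2 (GrothendieckTopology.uliftYonedaEquiv_uliftYoneda_map (J S) (bo ≫ e)).symm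
    rw [hsym, ← Functor.map_comp] at h1
    rw [Functor.map_comp, ← h1, Category.assoc]
  let z : A.P ⟶ X' := hsq.lift A.φ (A.π ≫ bo) h1'
  obtain ⟨ψ, hψ⟩ := GrothLib.SpQuot.exists_quotMap_hom aX A (𝟙 A.P)
  have hobj : qm.obj ⟨A.P, ⟨z ≫ qX⟩⟩ = qm.obj ⟨A.P, ⟨𝟙 A.P ≫ A.φ⟩⟩ :=
    congrArg (fun t : A.P ⟶ X => qm.obj ⟨A.P, ⟨t⟩⟩) ((hsq.lift_fst _ _ _).trans (Category.id_comp _).symm)
  let φ₁ : qm.obj ⟨A.P, ⟨z ≫ qX⟩⟩ ⟶ ξ₀ :=
    qm.map (⟨z, rfl⟩ : (⟨A.P, ⟨z ≫ qX⟩⟩ : (ofSch X).obj) ⟶ ⟨X', ⟨qX⟩⟩)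
  let φ₂ : qm.obj ⟨A.P, ⟨z ≫ qX⟩⟩ ⟶ A := eqToHom hobj ≫ ψ
  have b₁ : φ₁.base = z := rfl
  have b₂ : φ₂.base = A.π := by
    have e1 : ∀ {P Q : QuotObj Scheme.fppfPrecoverage G aX} (h : P = Q),
        (eqToHom h).base = eqToHom (congrArg QuotObj.base h) := by
      rintro P Q rfl; rfl
    change (eqToHom hobj).base ≫ ψ.base = _
    rw [e1, hψ]
    simp
  have hα : π.map φ₁ ≫ α₀ = π.map φ₂ ≫ α := by
    apply hom_eq_of_baseOver_eq aX
    rw [← StMod.map_comp_baseOver, ← StMod.map_comp_baseOver, hα₀]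
    change φ₁.base ≫ qY = φ₂.base ≫ bo
    rw [b₁, b₂]
    exact hsq.lift_snd _ _ _
  have h1 := relSect_compat aX s φ₁ α₀ z b₁ s₀ rfl
  have h2 := relSect_compat aX s φ₂ α A.π b₂ (s.1 A α) rfl
  refine Eq.trans ?_ ((h1.trans (congrArg (s.1 _) hα)).trans h2.symm)
  rw [← hr]
  change (bo.left.appTop ≫ A.π.left.appTop) r = (qY.left.appTop ≫ z.left.appTop) r
  rw [← Scheme.Hom.comp_appTop, ← Scheme.Hom.comp_appTop, ← Over.comp_left, ← Over.comp_left, hsq.lift_snd]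

end General

variable (R : Type u) [CommRing R] (A : Type u) [CommRing A] [Algebra R A]
variable (G : Type u) [Group G] [Fintype G] [DecidableEq G] [MulSemiringAction G A] [SMulCommClass G R A]

theorem unitIsIso (π : ConstAct.quotSt R A G Scheme.fppfPrecoverage ⥤ᵇ AlgSt.ofSch (ConstAct.specInv R A G))
    (hπ : BasedFunctor.comp
        (AlgSt.quotMap Scheme.fppfPrecoverage (ConstAct.GR R G) (ConstAct.gaction R A G)) π =
      AlgSt.ofSpMap ((AlgSp.yon (Spec (CommRingCat.of R))).map (ConstAct.quot R A G))) :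
    StMod.UnitIsIso π := by
  intro E
  obtain ⟨e, he⟩ := (AlgSp.yon _).map_surjective E.obj.hom
  haveI : Etale e.left := (AlgSp.repWith_yon_map_iff _ e).1 (by rw [he]; exact E.property)
  let f := ConstAct.quot R A G
  let X' : Over (Spec (CommRingCat.of R)) := Over.mk (pullback.snd f.left e.left ≫ E.obj.left.hom)
  let qY : X' ⟶ E.obj.left := Over.homMk (pullback.snd f.left e.left) rfl
  let qX : X' ⟶ ConstAct.X R A := Over.homMk (pullback.fst f.left e.left) (by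
    change _ = pullback.snd f.left e.left ≫ E.obj.left.hom
    rw [← Over.w e, ← pullback.condition_assoc, Over.w f]
    rfl)
  have hsq : IsPullback qX qY f e := GrothLib.AlgSp.isPullback_of_left (IsPullback.of_hasPullback f.left e.left)
  have hq := isQuot_base (isQuot R A G) e.left
  refine bijective_unitSect (ConstAct.gaction R A G) hπ E he hsq _ hq (fun h => actOver _ qY hq.inv h)
    (fun h => rfl) (fun h => Over.OverMorphism.ext (hq.inv h))
    (fun h => ⟨constG R A G h, Over.OverMorphism.ext ?_⟩)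
  rw [lift_constG_act R A G h]
  exact (baseAct_fst (rhoA R A G) f (isQuot R A G).inv e.left h).trans
    (congrArg (pullback.fst f.left e.left ≫ ·) (specAction_hom R A G h))

end GrothLib.ConstQuot
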