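import Groth.Agent.Lib.ConstQuot.QuotSt
import Groth.Agent.Lib.SpQuot.EtaleQuot
import Groth.Agent.Lib.AlgSt.UnivProps
import Groth.Agent.Lib.AlgSt.SmoothLocally
import Groth.Agent.Lib.AlgSt.LocQ
import Groth.Agent.Lib.AlgSt.FibreProduct
import Groth.Agent.Lib.AlgSp.UnivClosed
import Mathlib.RingTheory.Etale.Pi

/-!
# Quotient stacks by finite groups are universally homeomorphic to their quotients
-/

set_option autoImplicit false
set_option linter.style.haveILetI false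
set_option backward.isDefEq.respectTransparency false
set_option backward.isDefEq.respectTransparency.types false

universe u

open CategoryTheory CategoryTheory.Limits MonoidalCategory CartesianMonoidalCategory MonObj GrpObj AlgebraicGeometry
open Opposite

namespace GrothLib.ConstQuot

open _root_.AlgSp _root_.AlgSt GrothLib.FibCat GrothLib.AlgSt

attribute [local instance] GrothLib.SpQuot.grpYon

section Homeo

variable {S : Scheme.{u}} {G : Over S} [GrpObj G] {X : Over S} (aX : AlgGrp.Action G X)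
variable {Y : Over S} {f : X ⟶ Y} {π : QuotSt Scheme.fppfPrecoverage G aX ⥤ᵇ ofSch Y}

/-- The chart of a quotient stack. -/
noncomputable abbrev qchart : _root_.FibCat.overCat X ⥤ᵇ QuotSt Scheme.fppfPrecoverage G aX :=
  BasedFunctor.comp (ofOverCat X) (quotMap Scheme.fppfPrecoverage G aX)

theorem qchart_comp (hπ : BasedFunctor.comp (quotMap Scheme.fppfPrecoverage G aX) π = ofSpMap ((yon S).map f)) :
    BasedFunctor.comp (qchart aX) π = BasedFunctor.comp (ofOverCat X) (ofSpMap ((yon S).map f)) :=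
  congrArg (BasedFunctor.comp (ofOverCat X)) hπ

variable {𝒵 : _root_.AlgSt.Cat S} (g : 𝒵 ⥤ᵇ ofSch Y)

/-- The map between the base changes of the chart and of the quotient stack. -/
noncomputable def toStk : _root_.FibCat.fp g (BasedFunctor.comp (qchart aX) π) ⥤ᵇ _root_.FibCat.fp g π :=
  Fp.map (BasedFunctor.id 𝒵) (qchart aX) (BasedFunctor.id (ofSch Y)) (Iso.refl _) (Iso.refl _)

theorem fst_toStk (v : AlgSt.Points (_root_.FibCat.fp g (BasedFunctor.comp (qchart aX) π))) :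
    AlgSt.Points.map (_root_.FibCat.fpFst g π) (AlgSt.Points.map (toStk aX g) v) =
      AlgSt.Points.map (_root_.FibCat.fpFst g (BasedFunctor.comp (qchart aX) π)) v := by
  obtain ⟨v, rfl⟩ := AlgSt.Points.mk_surjective v
  rfl

theorem toStk_pasteComp (w : AlgSt.Points (_root_.FibCat.fp (_root_.FibCat.fpSnd g π) (qchart aX))) :
    AlgSt.Points.map (toStk aX g) (AlgSt.Points.map (Fp.pasteComp (qchart aX) π g) w) =
      AlgSt.Points.map (_root_.FibCat.fpFst (_root_.FibCat.fpSnd g π) (qchart aX)) w := by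
  obtain ⟨p, rfl⟩ := AlgSt.Points.mk_surjective w
  refine (AlgSt.Points.sound (rel_of_hom (r := p.map (_root_.FibCat.fpFst (_root_.FibCat.fpSnd g π) (qchart aX)))
    (p := (p.map (Fp.pasteComp (qchart aX) π g)).map (toStk aX g))
    (Fp.homMk (𝟙 p.obj.obj.fst.obj.fst) p.obj.obj.iso.hom ?_))).symm
  change g.map (𝟙 _) ≫ _ = _
  rw [g.map_id, Category.id_comp]
  refine (Fp.map_iso _ _ _ _ _ _).trans ?_
  exact ((Category.id_comp _).trans (Category.comp_id _)).trans (Fp.pasteComp_iso (qchart aX) π g p.obj)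

theorem toStk_spec (gQ : _root_.FibCat.IsFibGrpd (QuotSt Scheme.fppfPrecoverage G aX).p)
    (hsm : RepByAlgSpWith (LocP @Smooth) (qchart aX)) (hsurj : IsSurjective (qchart aX))
    (hZ : IsAlgStack Scheme.fppfPrecoverage 𝒵) :
    Continuous (AlgSt.Points.map (toStk (π := π) aX g)) ∧ Function.Surjective (AlgSt.Points.map (toStk (π := π) aX g)) := by
  have gX := isFibGrpd_overCat X
  have gY : _root_.FibCat.IsFibGrpd (ofSch Y).p := isFibGrpd_ofSp _
  have gF := Fp.isFibGrpd (F := g) (G := π) hZ.isStack.1 gQ gY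
  let q := _root_.FibCat.fpFst (_root_.FibCat.fpSnd g π) (qchart aX)
  obtain ⟨E, hE, ⟨e₀⟩, ⟨ε⟩⟩ := IsEquivOver.symm (Fp.isEquivOver_pasteComp (qchart aX) π g)
  have hM : ∀ v, AlgSt.Points.map (toStk aX g) v = AlgSt.Points.map (BasedFunctor.comp E q) v := fun v => by
    rw [points_map_comp, ← toStk_pasteComp aX g, ← points_map_comp E (Fp.pasteComp (qchart aX) π g), points_map_congr ε]
    obtain ⟨v, rfl⟩ := AlgSt.Points.mk_surjective v
    rfl
  refine ⟨continuous_def.2 fun W hW => AlgSt.Points.isOpen_iff.2 fun U x hx => ?_, fun p => ?_⟩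
  · have hx1 : RepByAlgSpWith (LocP @Smooth) (BasedFunctor.comp x E) := repByAlgSpWith_comp_equiv E hE hx
    have hq : RepByAlgSpWith (LocP @Smooth) q := repByAlgSpWith_fpFst (_root_.FibCat.fpSnd g π) hsm
    have hx2 : RepByAlgSpWith (LocP @Smooth) (BasedFunctor.comp (BasedFunctor.comp x E) q) :=
      repByAlgSpWith_comp' (isFibGrpd_overCat U) (Fp.isFibGrpd gF gX gQ) compStable_locP_smooth.iso
        compStable_locP_smooth.comp compStable_locP_smooth.detected _ _ hx1 hq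
    have := AlgSt.Points.isOpen_iff.1 hW U _ hx2
    convert! this using 1
    ext t
    simp only [Set.mem_preimage, hM]
    rfl
  · obtain ⟨w, hw⟩ := isSurjective_fpFst gX gF gQ (qchart aX) (_root_.FibCat.fpSnd g π) hsurj p
    exact ⟨_, (toStk_pasteComp aX g w).trans hw⟩

section Abstract

variable {M : Sp S} {𝒲 𝒬 : _root_.AlgSt.Cat S} (c : 𝒲 ⥤ᵇ 𝒬) (ρ : 𝒬 ⥤ᵇ ofSp M) (γ₀ : 𝒵 ⥤ᵇ ofSp M)

/-- Morphisms over an identity in the category of a sheaf are unique. -/
theorem hom_eq_of_isHomLift {u v : (ofSp M).obj} {T : Over S} (m m' : u ⟶ v)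
    (h : (ofSp M).p.IsHomLift (𝟙 T) m) (h' : (ofSp M).p.IsHomLift (𝟙 T) m') : m = m' :=
  Stk.EltObj.hom_ext ((@IsHomLift.fac' _ _ _ _ (ofSp M).p _ _ _ _ (𝟙 T) m h).trans
    (@IsHomLift.fac' _ _ _ _ (ofSp M).p _ _ _ _ (𝟙 T) m' h').symm)

/-- Objects of a base change over the same object lie over equal objects. -/
theorem snd_obj_eq {𝒜 : _root_.AlgSt.Cat S} (χ : 𝒜 ⥤ᵇ ofSp M) (o o' : (_root_.FibCat.fp γ₀ χ).obj)
    (j : o.obj.fst ⟶ o'.obj.fst) {T : Over S} (hz : 𝒵.p.obj o.obj.fst = T) (hjl : 𝒵.p.IsHomLift (𝟙 T) j) :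
    χ.obj o.obj.snd = χ.obj o'.obj.snd ∧ 𝒜.p.obj o.obj.snd = T ∧ 𝒜.p.obj o'.obj.snd = T := by
  have hz' : 𝒵.p.obj o'.obj.fst = T := @IsHomLift.codomain_eq _ _ _ _ 𝒵.p _ _ _ _ (𝟙 T) j hjl
  exact ⟨((obj_eq_of_isHomLift o.obj.iso.hom (Fp.iso_lift o)).symm.trans
      (obj_eq_of_isHomLift (γ₀.map j) (@BasedFunctor.preserves_isHomLift _ _ _ _ γ₀ _ _ _ _ (𝟙 T) j hjl))).trans
      (obj_eq_of_isHomLift o'.obj.iso.hom (Fp.iso_lift o')),
    (Fp.snd_proj o).trans hz, (Fp.snd_proj o').trans hz'⟩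

/-- A morphism over the identity between images gives a morphism in the base change. -/
theorem nonempty_hom_map (o o' : (_root_.FibCat.fp γ₀ (BasedFunctor.comp c ρ)).obj) (j : o.obj.fst ⟶ o'.obj.fst)
    {T : Over S} (hz : 𝒵.p.obj o.obj.fst = T) (hjl : 𝒵.p.IsHomLift (𝟙 T) j)
    (ψ : c.obj o.obj.snd ⟶ c.obj o'.obj.snd) (hψ : 𝒬.p.IsHomLift (𝟙 T) ψ) :
    Nonempty ((Fp.map (F := γ₀) (G := BasedFunctor.comp c ρ) (F' := γ₀) (G' := ρ) (BasedFunctor.id 𝒵) c (BasedFunctor.id (ofSp M))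
        (Iso.refl (BasedFunctor.comp (BasedFunctor.id 𝒵) γ₀)) (Iso.refl (BasedFunctor.comp c ρ))).obj o ⟶
      (Fp.map (F := γ₀) (G := BasedFunctor.comp c ρ) (F' := γ₀) (G' := ρ) (BasedFunctor.id 𝒵) c (BasedFunctor.id (ofSp M))
        (Iso.refl (BasedFunctor.comp (BasedFunctor.id 𝒵) γ₀)) (Iso.refl (BasedFunctor.comp c ρ))).obj o') := by
  let N := Fp.map (F := γ₀) (G := BasedFunctor.comp c ρ) (F' := γ₀) (G' := ρ) (BasedFunctor.id 𝒵) c (BasedFunctor.id (ofSp M))
    (Iso.refl (BasedFunctor.comp (BasedFunctor.id 𝒵) γ₀)) (Iso.refl (BasedFunctor.comp c ρ))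
  have hz' : 𝒵.p.obj o'.obj.fst = T := @IsHomLift.codomain_eq _ _ _ _ 𝒵.p _ _ _ _ (𝟙 T) j hjl
  have l1 : (ofSp M).p.IsHomLift (𝟙 T) (γ₀.map j) :=
    @BasedFunctor.preserves_isHomLift _ _ _ _ γ₀ _ _ _ _ (𝟙 T) j hjl
  have l2 : (ofSp M).p.IsHomLift (𝟙 T) (ρ.map ψ) :=
    @BasedFunctor.preserves_isHomLift _ _ _ _ ρ _ _ _ _ (𝟙 T) ψ hψ
  have l3 : (ofSp M).p.IsHomLift (𝟙 T) (N.obj o).obj.iso.hom := by
    have := Fp.iso_lift (N.obj o)
    rwa [show 𝒵.p.obj (N.obj o).obj.fst = T from hz] at this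
  have l4 : (ofSp M).p.IsHomLift (𝟙 T) (N.obj o').obj.iso.hom := by
    have := Fp.iso_lift (N.obj o')
    rwa [show 𝒵.p.obj (N.obj o').obj.fst = T from hz'] at this
  refine ⟨Fp.homMk (a := N.obj o) (b := N.obj o') j ψ ?_⟩
  refine hom_eq_of_isHomLift (T := T) _ _ ?_ ?_
  · exact @IsHomLift.comp_lift_id_right' _ _ _ _ (ofSp M).p _ _ _ _ _ (𝟙 T) _ l1 T _ l4
  · exact @IsHomLift.comp_lift_id_left' _ _ _ _ (ofSp M).p _ _ _ T _ l3 _ _ (𝟙 T) _ l2

end Abstract

theorem ofOverCat_ofSpMap_obj {Y : Over S} (f : X ⟶ Y) {T : Over S} (φ : T ⟶ X) :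
    (BasedFunctor.comp (ofOverCat X) (ofSpMap ((yon S).map f))).obj (Over.mk φ) =
      (⟨T, ⟨φ ≫ f⟩⟩ : (ofSch Y).obj) := rfl

/-- Translates of a point give isomorphic trivial torsors. -/
theorem exists_qchart_hom {T : Over S} (φ φ' : T ⟶ X) (c : T ⟶ G) (hc : lift c φ' ≫ aX.act = φ) :
    ∃ ψ : (qchart aX).obj (Over.mk φ) ⟶ (qchart aX).obj (Over.mk φ'),
      (QuotSt Scheme.fppfPrecoverage G aX).p.IsHomLift (𝟙 T) ψ := by
  let B := (quotMap Scheme.fppfPrecoverage G aX).obj ⟨T, ⟨φ'⟩⟩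
  obtain ⟨ψ, hψ⟩ := GrothLib.SpQuot.exists_quotMap_hom aX B (V := T) (lift c (𝟙 _))
  have hcB : lift c (𝟙 T) ≫ B.φ = φ := by
    change lift c (𝟙 _) ≫ (G ◁ φ') ≫ aX.act = φ
    rw [← Category.assoc, lift_whiskerLeft, Category.id_comp]
    exact hc
  have hψ' : ψ.base = 𝟙 T := hψ.trans (lift_snd _ _)
  clear hψ
  revert ψ
  rw [hcB]
  intro ψ hψ'
  exact ⟨ψ, IsHomLift.of_fac' (QuotSt Scheme.fppfPrecoverage G aX).p (𝟙 T) ψ rfl rfl (by
    simp only [eqToHom_refl]
    exact hψ'.trans ((Category.id_comp _).trans (Category.id_comp _)).symm)⟩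

theorem nonempty_hom_toStk (hπ : BasedFunctor.comp (quotMap Scheme.fppfPrecoverage G aX) π = ofSpMap ((yon S).map f))
    (T : Over S) (horbT : ∀ x x' : T ⟶ X, x ≫ f = x' ≫ f → ∃ c : T ⟶ G, lift c x' ≫ aX.act = x)
    (o o' : (_root_.FibCat.fp g (BasedFunctor.comp (qchart aX) π)).obj) (j : o.obj.fst ⟶ o'.obj.fst)
    (hz : 𝒵.p.obj o.obj.fst = T) (hjl : 𝒵.p.IsHomLift (𝟙 T) j) :
    Nonempty ((toStk aX g).obj o ⟶ (toStk aX g).obj o') := by
  obtain ⟨he, ex, ex'⟩ := snd_obj_eq g (BasedFunctor.comp (qchart aX) π) o o' j hz hjl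
  have key : ∀ (x x' : Over X), x.left = T → x'.left = T →
      (BasedFunctor.comp (ofOverCat X) (ofSpMap ((yon S).map f))).obj x =
        (BasedFunctor.comp (ofOverCat X) (ofSpMap ((yon S).map f))).obj x' →
      ∃ ψ : (qchart aX).obj x ⟶ (qchart aX).obj x', (QuotSt Scheme.fppfPrecoverage G aX).p.IsHomLift (𝟙 T) ψ := by
    rintro ⟨xl, ⟨⟨⟩⟩, φ⟩ ⟨xl', ⟨⟨⟩⟩, φ'⟩ e e' he
    change xl = T at e
    change xl' = T at e'
    subst e e'
    have exx := ((ofOverCat_ofSpMap_obj f φ).symm.trans he).trans (ofOverCat_ofSpMap_obj f φ')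
    injection exx with _ e3
    obtain ⟨c, hc⟩ := horbT φ φ' (congrArg ULift.down e3)
    exact exists_qchart_hom aX φ φ' c hc
  obtain ⟨ψ, hψ⟩ := key o.obj.snd o'.obj.snd ex ex'
    (((congrArg (fun F : _root_.FibCat.overCat X ⥤ᵇ ofSch Y => F.obj o.obj.snd) (qchart_comp aX hπ)).symm.trans he).trans
      (congrArg (fun F : _root_.FibCat.overCat X ⥤ᵇ ofSch Y => F.obj o'.obj.snd) (qchart_comp aX hπ)))
  exact nonempty_hom_map (qchart aX) π g o o' j hz hjl ψ hψ

theorem isUnivHomeo_of_orbits (hG : Smooth G.hom) (hGa : IsAffineHom G.hom)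
    (hf : UniversallyClosed f.left) (hfs : Surjective f.left)
    (horb : ∀ (K : Type u) [Field K] (t : Spec (CommRingCat.of K) ⟶ S) (x x' : Over.mk t ⟶ X),
      x ≫ f = x' ≫ f → ∃ g : Over.mk t ⟶ G, lift g x' ≫ aX.act = x)
    (hπ : BasedFunctor.comp (quotMap Scheme.fppfPrecoverage G aX) π = ofSpMap ((yon S).map f)) :
    IsUnivHomeo Scheme.fppfPrecoverage π := by
  intro 𝒵 hZ g
  have gQ : _root_.FibCat.IsFibGrpd (QuotSt Scheme.fppfPrecoverage G aX).p :=
    (GrothLib.FibCat.isFibGrpd_iff_of_isEquivOver _ (GrothLib.SpQuot.isEquivOver_etInc hG)).1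
      (GrothLib.SpQuot.isAlgStack_quotSt_etale hG hGa).isStack.1
  have gX := isFibGrpd_overCat X
  have gY : _root_.FibCat.IsFibGrpd (ofSch Y).p := isFibGrpd_ofSp _
  have gF := Fp.isFibGrpd (F := g) (G := π) hZ.isStack.1 gQ gY
  have gH := Fp.isFibGrpd (F := g) (G := BasedFunctor.comp (qchart aX) π) hZ.isStack.1 gX gY
  let f' := qchart aX
  let h := BasedFunctor.comp f' π
  have hsm : RepByAlgSpWith (LocP @Smooth) f' :=
    GrothLib.SpQuot.repByAlgSpWith_quotMap aX (GrothLib.SpQuot.locP_torsor aX GrothLib.AlgSp.EtLocal.smooth hG)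
  have hsurj : IsSurjective f' := fun p => by
    obtain ⟨t, rfl⟩ := surjective_ofChart gQ
      (GrothLib.SpQuot.repByAlgSpWith_quotMap aX fun A => GrothLib.SpQuot.isSurjectiveMor_torsor A) p
    exact ⟨_, (ofChart_eq_map _ t).symm⟩
  obtain ⟨hMc, hMs⟩ := toStk_spec aX g gQ hsm hsurj hZ (π := π)
  have hX : IsAlgStack Scheme.fppfPrecoverage (_root_.FibCat.overCat X) := (isDM_of_repByAlgSp (repByAlgSp_overCat X)).1
  have hY : IsAlgStack Scheme.fppfPrecoverage (ofSch Y) :=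
    (isDM_of_repByAlgSp (repByAlgSp_ofSp (IsAlgSpace.yon_obj Y))).1
  have hh : h = BasedFunctor.comp (ofOverCat X) (ofSpMap ((yon S).map f)) := qchart_comp aX hπ
  have huc : RepByAlgSpWith IsUnivClosedMor h := by
    rw [hh]
    have := IsEquivOver.full (IsEquivOver.refl (ofSch Y))
    have := IsEquivOver.faithful (IsEquivOver.refl (ofSch Y))
    refine repByAlgSpWith_of_square (ofOverCat X) (BasedFunctor.id _) (isEquivOver_ofOverCat X) (Iso.refl _)
      (repByAlgSpWith_ofSpMap (IsAlgSpace.yon_obj X) (IsAlgSpace.yon_obj Y) _ fun U c => ?_)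
    exact GrothLib.AlgSp.isUnivClosedMor_of_repWith (GrothLib.AlgSp.repWith_of_isPullback
      (IsPullback.of_hasPullback c ((yon S).map f)).flip ((repWith_yon_map_iff _ _).2 hf))
  have hcl : IsClosedMap (Points.map (_root_.FibCat.fpFst g h)) :=
    forall_of_repByAlgSpWith @IsClosedMap mapPropInv_isClosedMap mapPropDesc_isClosedMap hX hY huc 𝒵 hZ g
  have hhs : IsSurjective h := fun p => by
    obtain ⟨y, hy⟩ := (AlgSp.Points.schemeHomeo Y).surjective (toSpPoints p)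
    obtain ⟨x, rfl⟩ := hfs.surj y
    obtain ⟨r, hr⟩ := toSpPoints_bijective.2 (AlgSp.Points.schemeHomeo X x)
    obtain ⟨s, rfl⟩ := (points_map_bijective_of_isEquivOver gX (ofOverCat X) (isEquivOver_ofOverCat X)).2 r
    refine ⟨s, toSpPoints_bijective.1 ?_⟩
    rw [hh, points_map_comp, toSpPoints_map, hr, ← hy]
    exact AlgSp.Points.map_yon_map_apply f x
  have hinj : ∀ v v', Points.map (_root_.FibCat.fpFst g h) v = Points.map (_root_.FibCat.fpFst g h) v' →
      Points.map (toStk aX g) v = Points.map (toStk aX g) v' := by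
    intro v v' e
    obtain ⟨p, rfl⟩ := Points.mk_surjective v
    obtain ⟨p', rfl⟩ := Points.mk_surjective v'
    obtain ⟨r, a, b, -⟩ := rel_of_mk_eq hZ.isStack.1 e
    let da : Over.mk r.str ⟶ Over.mk p.str := fptBase a
    let db : Over.mk r.str ⟶ Over.mk p'.str := fptBase b
    obtain ⟨o, α, hα⟩ := IsFibGrpd.exists_lift_of_eq gH p.lies da
    obtain ⟨o', β, hβ⟩ := IsFibGrpd.exists_lift_of_eq gH p'.lies db
    have h1 : 𝒵.p.IsHomLift da a := isHomLift_fptBase a
    have h2 : 𝒵.p.IsHomLift db b := isHomLift_fptBase b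
    have h3 : 𝒵.p.IsHomLift da α.hom.fst := (Fp.isHomLift_iff _ _).1 hα
    have h4 : 𝒵.p.IsHomLift db β.hom.fst := (Fp.isHomLift_iff _ _).1 hβ
    obtain ⟨i, hi, -⟩ :=
      @IsFibGrpd.exists_iso_of_lifts _ _ _ _ _ hZ.isStack.1 _ _ da _ _ _ α.hom.fst a h3 h1
    obtain ⟨j, hj, -⟩ :=
      @IsFibGrpd.exists_iso_of_lifts _ _ _ _ _ hZ.isStack.1 _ _ db _ _ _ b β.hom.fst h2 h4
    have hij : 𝒵.p.IsHomLift (𝟙 (Over.mk r.str)) (i.inv ≫ j.inv) :=
      haveI := hi
      haveI := hj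
      haveI := GrothLib.FibCat.isHomLift_id_inv 𝒵.p (R := Over.mk r.str) i
      haveI := GrothLib.FibCat.isHomLift_id_inv 𝒵.p (R := Over.mk r.str) j
      inferInstance
    have ho : 𝒵.p.obj o.obj.fst = Over.mk r.str := IsHomLift.domain_eq 𝒵.p da α.hom.fst
    have ho' : (_root_.FibCat.fp g h).p.obj o' = Over.mk r.str :=
      IsHomLift.domain_eq (_root_.FibCat.fp g h).p db β
    obtain ⟨m⟩ := nonempty_hom_toStk aX g hπ _ (horb r.K r.str) o o' (i.inv ≫ j.inv) ho hij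
    refine ((congrArg (Points.map (toStk aX g)) (Points.sound (rel_of_hom (r := ⟨r.K, r.str, o, ho⟩) α))).symm).trans
      (Eq.trans ?_ (congrArg (Points.map (toStk aX g)) (Points.sound (rel_of_hom (r := ⟨r.K, r.str, o', ho'⟩) β))))
    exact Points.sound (rel_of_hom m)
  refine isHomeomorph_iff_continuous_isClosedMap_bijective.2 ⟨?_, ?_, ?_, ?_⟩
  · exact continuous_def.2 fun W hW => Points.isOpen_iff.2 fun U x _ =>
      hW.preimage (continuous_ofChart hZ.isStack.1 hZ.atlas (BasedFunctor.comp x (_root_.FibCat.fpFst g π)))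
  · intro K hK
    rw [← hMs.image_preimage K, ← Set.image_comp,
      show Points.map (_root_.FibCat.fpFst g π) ∘ Points.map (toStk aX g) = Points.map (_root_.FibCat.fpFst g h) from funext (fst_toStk aX g)]
    exact hcl _ (hK.preimage hMc)
  · intro a b e
    obtain ⟨v, rfl⟩ := hMs a
    obtain ⟨v', rfl⟩ := hMs b
    rw [fst_toStk, fst_toStk] at e
    exact hinj v v' e
  · intro z
    obtain ⟨v, hv⟩ := isSurjective_fpFst gX hZ.isStack.1 gY h g hhs z
    exact ⟨Points.map (toStk aX g) v, (fst_toStk aX g v).trans hv⟩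

end Homeo

section Const

variable (R : Type u) [CommRing R] (A : Type u) [CommRing A] [Algebra R A]
variable (G : Type u) [Group G] [Fintype G] [DecidableEq G] [MulSemiringAction G A] [SMulCommClass G R A]

omit [DecidableEq G] in
/-- Points with values in a field and with the same image in the quotient differ by a group element. -/
theorem fieldOrbits [DecidableEq G] (K : Type u) [Field K] (t : Spec (CommRingCat.of K) ⟶ Spec (CommRingCat.of R))
    (x x' : Over.mk t ⟶ ConstAct.X R A) (h : x ≫ ConstAct.quot R A G = x' ≫ ConstAct.quot R A G) :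
    ∃ g : Over.mk t ⟶ ConstAct.GR R G, lift g x' ≫ (ConstAct.gaction R A G).act = x := by
  obtain ⟨φ, rfl⟩ := Spec.map_surjective t
  letI : Algebra R K := φ.hom.toAlgebra
  obtain ⟨a, rfl⟩ := exists_pt R A (K := K) x
  obtain ⟨a', rfl⟩ := exists_pt R A (K := K) x'
  have hq : ∀ b : A →ₐ[R] K, CoactBr.pt b ≫ ConstAct.quot R A G = CoactBr.pt (b.comp (ConstAct.inv R A G).val) :=
    fun b => (CoactBr.pt_comp (ConstAct.inv R A G).val b).symm
  obtain ⟨g, rfl⟩ := exists_smul R A G K a' a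
    (CoactBr.pt_injective (((hq a').symm.trans h.symm).trans (hq a)))
  refine ⟨CoactBr.pt (ConstAct.constPt R G g⁻¹), ?_⟩
  refine (ConstAct.gaction_constPt R A G g⁻¹ a').trans ?_
  rw [_root_.inv_inv]
  exact (ConstAct.pt_comp_toAlgEquiv R A G a' g).symm

omit [Group G] [DecidableEq G] in
theorem smooth_GR : Smooth (ConstAct.GR R G).hom := by
  haveI : Algebra.Smooth R (ConstGrp.F R G) := inferInstanceAs (Algebra.Smooth R (G → R))
  refine (HasRingHomProperty.Spec_iff (P := @Smooth)).mpr ?_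
  exact RingHom.smooth_algebraMap.mpr inferInstance

/-- `[Spec A/G] → Spec A^G` is a universal homeomorphism. -/
theorem isUnivHomeo [Algebra.FiniteType R A]
    (π : ConstAct.quotSt R A G Scheme.fppfPrecoverage ⥤ᵇ AlgSt.ofSch (ConstAct.specInv R A G))
    (hπ : BasedFunctor.comp
        (AlgSt.quotMap Scheme.fppfPrecoverage (ConstAct.GR R G) (ConstAct.gaction R A G)) π =
      AlgSt.ofSpMap ((AlgSp.yon (Spec (CommRingCat.of R))).map (ConstAct.quot R A G))) :
    AlgSt.IsUnivHomeo Scheme.fppfPrecoverage π := by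
  haveI := isFinite_quot R A G
  refine isUnivHomeo_of_orbits (ConstAct.gaction R A G) (smooth_GR R G) ?_ inferInstance
    ⟨GrothLib.SGA1Quot21.surjective (isQuot R A G)⟩ (fun K _ t => fieldOrbits R A G K t) hπ
  exact inferInstanceAs (IsAffineHom (Spec.map (CommRingCat.ofHom (algebraMap R (ConstGrp.F R G)))))

end Const

end GrothLib.ConstQuot
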